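import Mathlib
import Cfsg.Agent.ClassicalGeometry.PSUAutSylow
import Cfsg.Agent.OddHalf.D4.Spor.Sheet
import Cfsg.Agent.OddHalf.Table.OutUSix

-- merged: Cfsg.Agent.OddHalf.D4.Un2.Basic
section

/-!
# ODD, D4, row `U_n(2)`: involutions of `SU_n(2)`

`hF : |F| = 2 ^ 2`. Elements of `SU n F 2` act on `Fin n → F` (`act`). `Nw w y = w y + y`; `Fx w u : w u = u`;
`Rd w r`: `r` lies in the radical of the fixed space of `w`.
-/

set_option autoImplicit false

namespace Cfsg.Agent.OddHalf.D4.Un2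

open Cfsg Cfsg.Agent.LieClassical.HermBasic Cfsg.Agent.LieClassical.HermSiegel
  Cfsg.Agent.ClassicalGeometry.PSUAutBasic Matrix

section Field

variable {F : Type*} [Field F] [Fintype F]

theorem charP_two (hF : Fintype.card F = 2 ^ 2) : CharP F 2 := by
  obtain ⟨p, k, hp, hchar, hk, -⟩ := exists_prime_pow hF
  have h1 : p ∣ 2 := by rw [hk]; apply dvd_pow_self; rintro rfl; norm_num at hk
  rwa [(Nat.prime_dvd_prime_iff_eq hp Nat.prime_two).1 h1] at hchar

theorem add_self (hF : Fintype.card F = 2 ^ 2) (x : F) : x + x = 0 := by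
  have := charP_two hF
  exact CharTwo.add_self_eq_zero x

theorem neg_self (hF : Fintype.card F = 2 ^ 2) (x : F) : -x = x := by
  have h := add_self hF x
  linear_combination -h

theorem pow_three (hF : Fintype.card F = 2 ^ 2) {x : F} (hx : x ≠ 0) : x ^ 3 = 1 := by
  have := FiniteField.pow_card_sub_one_eq_one x hx
  rwa [hF] at this

omit [Fintype F] in
theorem fixed {x : F} (hx : x ^ 2 = x) : x = 0 ∨ x = 1 := by
  by_cases h0 : x = 0
  · exact Or.inl h0
  · right
    have : x * (x - 1) = 0 := by linear_combination hx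
    rcases mul_eq_zero.1 this with h | h
    · exact absurd h h0
    · linear_combination h

/-- a primitive cube root of unity -/
theorem exists_omega (hF : Fintype.card F = 2 ^ 2) : ∃ ω : F, ω ≠ 0 ∧ ω + ω ^ 2 = 1 := by
  obtain ⟨x, hx⟩ := exists_not_fixed hF
  have h0 : x ≠ 0 := by rintro rfl; exact hx (by ring)
  have h1 : x ≠ 1 := by rintro rfl; exact hx (by ring)
  refine ⟨x, h0, ?_⟩
  have h3 := pow_three hF h0
  have h2 := add_self hF (1 : F)
  have h4 : (x - 1) * (x + x ^ 2 - 1) = 0 := by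
    linear_combination h3 - x * h2 + h2
  rcases mul_eq_zero.1 h4 with h | h
  · exact absurd (by linear_combination h) h1
  · linear_combination h

end Field

section Vec

variable {F : Type*} [Field F] [Fintype F] {n : ℕ}

theorem vadd_self (hF : Fintype.card F = 2 ^ 2) (x : Fin n → F) : x + x = 0 := by
  funext i
  exact add_self hF (x i)

theorem vneg (hF : Fintype.card F = 2 ^ 2) (x : Fin n → F) : -x = x :=
  neg_eq_of_add_eq_zero_left (vadd_self hF x)

theorem vsub (hF : Fintype.card F = 2 ^ 2) (x y : Fin n → F) : x - y = x + y := by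
  rw [sub_eq_add_neg, vneg hF]

/-- `w y + y` -/
def Nw (w : SU n F 2) (y : Fin n → F) : Fin n → F := act w y + y

omit [Fintype F] in
theorem Nw_def (w : SU n F 2) (y : Fin n → F) : Nw w y = act w y + y := rfl

theorem act_eq (hF : Fintype.card F = 2 ^ 2) (w : SU n F 2) (y : Fin n → F) : act w y = y + Nw w y := by
  rw [Nw, add_comm (act w y) y, ← add_assoc, vadd_self hF, zero_add]

omit [Fintype F] in
theorem Nw_add (w : SU n F 2) (x y : Fin n → F) : Nw w (x + y) = Nw w x + Nw w y := by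
  rw [Nw, Nw, Nw, act_add]
  abel

omit [Fintype F] in
theorem Nw_smul (w : SU n F 2) (c : F) (y : Fin n → F) : Nw w (c • y) = c • Nw w y := by
  rw [Nw, Nw, act_smul, smul_add]

theorem Nw_eq_zero (hF : Fintype.card F = 2 ^ 2) {w : SU n F 2} {y : Fin n → F} : Nw w y = 0 ↔ act w y = y := by
  constructor
  · intro h
    rw [act_eq hF, h, add_zero]
  · intro h
    rw [Nw, h, vadd_self hF]

omit [Fintype F] in
theorem act_act {w : SU n F 2} (hw : w * w = 1) (y : Fin n → F) : act w (act w y) = y := by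
  rw [← act_mul, hw, act_one]

omit [Fintype F] in
theorem act_Nw {w : SU n F 2} (hw : w * w = 1) (y : Fin n → F) : act w (Nw w y) = Nw w y := by
  rw [Nw, act_add, act_act hw, add_comm]

omit [Fintype F] in
/-- `w` is self-adjoint -/
theorem herm_w {w : SU n F 2} (hw : w * w = 1) (x y : Fin n → F) :
    hermForm n F 2 (act w x) y = hermForm n F 2 x (act w y) := by
  rw [← herm_act w x (act w y), act_act hw]

theorem herm_Nw (hF : Fintype.card F = 2 ^ 2) {w : SU n F 2} (hw : w * w = 1) (x y : Fin n → F) :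
    hermForm n F 2 (Nw w x) y = hermForm n F 2 x (Nw w y) := by
  rw [Nw, Nw, herm_add_left, herm_add_right hF, herm_w hw]

theorem herm_Nw_fix (hF : Fintype.card F = 2 ^ 2) {w : SU n F 2} (hw : w * w = 1) {u : Fin n → F}
    (hu : act w u = u) (y : Fin n → F) : hermForm n F 2 (Nw w y) u = 0 := by
  rw [herm_Nw hF hw, (Nw_eq_zero hF).2 hu, herm_zero_right hF]

theorem herm_fix_Nw (hF : Fintype.card F = 2 ^ 2) {w : SU n F 2} (hw : w * w = 1) {u : Fin n → F}
    (hu : act w u = u) (y : Fin n → F) : hermForm n F 2 u (Nw w y) = 0 :=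
  herm_eq_zero_swap hF (herm_Nw_fix hF hw hu y)

theorem fix_of_orth (hF : Fintype.card F = 2 ^ 2) {w : SU n F 2} (hw : w * w = 1) {u : Fin n → F}
    (h : ∀ y, hermForm n F 2 (Nw w y) u = 0) : act w u = u := by
  rw [← Nw_eq_zero hF]
  by_contra h0
  obtain ⟨y, hy⟩ := exists_herm_ne_zero hF h0
  apply hy
  rw [herm_Nw hF hw]
  exact herm_eq_zero_swap hF (h y)

/-- The radical of the fixed space of `w`. -/
def Rd (w : SU n F 2) (r : Fin n → F) : Prop :=
  act w r = r ∧ ∀ u, act w u = u → hermForm n F 2 u r = 0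

theorem Rd_Nw (hF : Fintype.card F = 2 ^ 2) {w : SU n F 2} (hw : w * w = 1) (y : Fin n → F) : Rd w (Nw w y) :=
  ⟨act_Nw hw y, fun _ hu => herm_fix_Nw hF hw hu y⟩

omit [Fintype F] in
theorem Rd.self {w : SU n F 2} {r : Fin n → F} (h : Rd w r) : hermForm n F 2 r r = 0 := h.2 r h.1

omit [Fintype F] in
theorem Rd.left {w : SU n F 2} {r : Fin n → F} (h : Rd w r) {u : Fin n → F} (hu : act w u = u) :
    hermForm n F 2 u r = 0 := h.2 u hu

theorem Rd.right (hF : Fintype.card F = 2 ^ 2) {w : SU n F 2} {r : Fin n → F} (h : Rd w r) {u : Fin n → F}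
    (hu : act w u = u) : hermForm n F 2 r u = 0 := herm_eq_zero_swap hF (h.2 u hu)

omit [Fintype F] in
theorem Rd.smul {w : SU n F 2} {r : Fin n → F} (h : Rd w r) (c : F) : Rd w (c • r) := by
  refine ⟨by rw [act_smul, h.1], fun u hu => ?_⟩
  rw [herm_smul_right, h.2 u hu, mul_zero]

theorem Rd.add (hF : Fintype.card F = 2 ^ 2) {w : SU n F 2} {r s : Fin n → F} (h : Rd w r) (h' : Rd w s) :
    Rd w (r + s) := by
  refine ⟨by rw [act_add, h.1, h'.1], fun u hu => ?_⟩
  rw [herm_add_right hF, h.2 u hu, h'.2 u hu, add_zero]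

omit [Fintype F] in
theorem comm_act {w x : SU n F 2} (h : x * w = w * x) (y : Fin n → F) : act x (act w y) = act w (act x y) := by
  rw [← act_mul, h, act_mul]

omit [Fintype F] in
theorem fix_act {w x : SU n F 2} (h : x * w = w * x) {u : Fin n → F} (hu : act w u = u) :
    act w (act x u) = act x u := by
  rw [← comm_act h, hu]

omit [Fintype F] in
theorem fix_act_iff {w x : SU n F 2} (h : x * w = w * x) {u : Fin n → F} :
    act w (act x u) = act x u ↔ act w u = u := by
  rw [← comm_act h]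
  exact ⟨fun h1 => act_injective x h1, fun h1 => by rw [h1]⟩

omit [Fintype F] in
theorem Rd.map {w x : SU n F 2} (h : x * w = w * x) {r : Fin n → F} (hr : Rd w r) : Rd w (act x r) := by
  refine ⟨fix_act h hr.1, fun u hu => ?_⟩
  have h1 : u = act x (act x⁻¹ u) := (act_act_inv x u).symm
  rw [h1, herm_act]
  apply hr.2
  apply (fix_act_iff h).1
  rw [← h1, hu]

omit [Fintype F] in
theorem Nw_comm {w x : SU n F 2} (h : x * w = w * x) (y : Fin n → F) : act x (Nw w y) = Nw w (act x y) := by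
  rw [Nw, Nw, act_add, comm_act h]

/-! ### Siegel elements -/

/-- existence of the parameter -/
theorem exists_siegel (hF : Fintype.card F = 2 ^ 2) {r u : Fin n → F} (hr : hermForm n F 2 r r = 0)
    (hu : hermForm n F 2 u r = 0) : ∃ μ : F, IsSiegel 2 r u μ := by
  obtain ⟨μ, hμ⟩ := exists_trace_eq hF (c := hermForm n F 2 u u) (herm_self_pow hF u)
  refine ⟨μ, hr, hu, ?_⟩
  rw [hμ, add_self hF]

/-- Siegel elements commuting with `w` -/
theorem siegel_comm (hF : Fintype.card F = 2 ^ 2) {w : SU n F 2} {r u : Fin n → F} {μ : F}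
    (h : IsSiegel 2 r u μ) (hr : act w r = r) (hu : act w u = u) :
    siegel hF r u μ h * w = w * siegel hF r u μ h := by
  have h1 := conj_siegel hF h w
  rw [siegel_congr hF (h.map w) h hr hu rfl] at h1
  calc siegel hF r u μ h * w = (w * siegel hF r u μ h * w⁻¹) * w := by rw [h1]
    _ = w * siegel hF r u μ h := by group

/-- the transvection with center `v` -/
theorem exists_tv (hF : Fintype.card F = 2 ^ 2) {v : Fin n → F} (hv : hermForm n F 2 v v = 0) :
    ∃ t : SU n F 2, ∀ y, act t y = y + hermForm n F 2 y v • v := by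
  have h : (1 : F) + 1 ^ 2 = 0 := by rw [one_pow, add_self hF]
  refine ⟨transv hF v hv 1 h, fun y => ?_⟩
  rw [act_transv, one_mul]

end Vec

end Cfsg.Agent.OddHalf.D4.Un2

end

-- merged: Cfsg.Agent.OddHalf.D4.Un2.Tab
section

/-!
# ODD, D4, row `U_n(2)`: subgroups normalized by the centralizers of their involutions

`Good B`: `B ≤ SU_n(2)` is normalized by the centralizers of its involutions and contains no transvection.
`Good.eq_one_or`: if `w` is an involution of `B` with maximal fixed space and `n ≥ 5`, then the 2-elements of `C_B(w)`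
are `1` and `w`.
-/

set_option autoImplicit false

namespace Cfsg.Agent.OddHalf.D4.Un2

open Cfsg Cfsg.Agent.LieClassical.HermBasic Cfsg.Agent.LieClassical.HermSiegel
  Cfsg.Agent.ClassicalGeometry.PSUAutBasic Matrix

variable {F : Type*} [Field F] [Fintype F] {n : ℕ}

omit [Fintype F] in
/-- `B` is normalized by the centralizers of its involutions, and contains no transvection. -/
structure Good (B : Subgroup (SU n F 2)) : Prop where
  norm : ∀ w ∈ B, w * w = 1 → w ≠ 1 → ∀ c, c * w = w * c → ∀ b ∈ B, c * b * c⁻¹ ∈ B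
  non : ∀ g ∈ B, ∀ v : Fin n → F, v ≠ 0 → hermForm n F 2 v v = 0 →
    ¬ ∀ y, act g y = y + hermForm n F 2 y v • v

variable {B : Subgroup (SU n F 2)}

omit [Fintype F] in
theorem Good.comm_mem (hB : Good B) {w : SU n F 2} (hw : w ∈ B) (hw2 : w * w = 1) (hw1 : w ≠ 1) {c : SU n F 2}
    (hc : c * w = w * c) {g : SU n F 2} (hg : g ∈ B) : (g * c * g⁻¹) * c⁻¹ ∈ B := by
  have h := B.mul_mem hg (hB.norm w hw hw2 hw1 c hc g⁻¹ (B.inv_mem hg))
  have e : g * (c * g⁻¹ * c⁻¹) = (g * c * g⁻¹) * c⁻¹ := by group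
  rwa [e] at h

/-- an element of `B` with `g s = s`, `g v = v + s` (`s`, `v` fixed by `w`, `s` isotropic, orthogonal to `v`) -/
theorem Good.claim (hF : Fintype.card F = 2 ^ 2) (hB : Good B) {w : SU n F 2} (hw : w ∈ B) (hw2 : w * w = 1)
    (hw1 : w ≠ 1) {g : SU n F 2} (hg : g ∈ B) {s v : Fin n → F} (hs : act w s = s)
    (hss : hermForm n F 2 s s = 0) (hv : act w v = v) (hvs : hermForm n F 2 v s = 0) (hgs : act g s = s)
    (hgv : act g v = v + s) : s = 0 := by
  by_contra h0
  obtain ⟨ω, -, hω⟩ := exists_omega hF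
  have hvs' : hermForm n F 2 (ω • v) s = 0 := by rw [herm_smul_left, hvs, mul_zero]
  obtain ⟨μ, hμ⟩ := exists_siegel hF hss hvs'
  have hcw : siegel hF s (ω • v) μ hμ * w = w * siegel hF s (ω • v) μ hμ :=
    siegel_comm hF hμ hs (by rw [act_smul, hv])
  refine hB.non _ (hB.comm_mem hw hw2 hw1 hcw hg) s h0 hss fun y => ?_
  obtain ⟨z, rfl⟩ : ∃ z, y = act (siegel hF s (ω • v) μ hμ) z := ⟨_, (act_act_inv _ y).symm⟩
  have h1 : hermForm n F 2 (act (siegel hF s (ω • v) μ hμ) z) s = hermForm n F 2 z s := by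
    have h := herm_act (siegel hF s (ω • v) μ hμ) z s
    rwa [act_siegel_self hF hμ] at h
  have h2 : act g (ω • v) = ω • v + ω • s := by rw [act_smul, hgv, smul_add]
  have hμ' : IsSiegel 2 s (ω • v + ω • s) μ := by
    have h := hμ.map g
    rwa [hgs, h2] at h
  rw [act_mul, act_inv_act, h1, conj_siegel hF hμ g, siegel_congr hF (hμ.map g) hμ' hgs h2 rfl, act_siegel,
    act_siegel]
  have h3 : hermForm n F 2 z (ω • v + ω • s) = hermForm n F 2 z (ω • v) + ω ^ 2 * hermForm n F 2 z s := by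
    rw [herm_add_right hF, herm_smul_right ω z s]
  rw [h3]
  funext i
  simp only [Pi.add_apply, Pi.smul_apply, smul_eq_mul]
  have h4 : ω - ω ^ 2 = 1 := by linear_combination hω - ω ^ 2 * add_self hF (1 : F)
  linear_combination (hermForm n F 2 z s * s i) * h4

omit [Fintype F] in
theorem act_pow_smul {x : SU n F 2} {r : Fin n → F} {c : F} (h : act x r = c • r) (m : ℕ) :
    act (x ^ m) r = c ^ m • r := by
  induction m with
  | zero => rw [pow_zero, act_one, pow_zero, one_smul]
  | succ m ih => rw [pow_succ, act_mul, h, act_smul, ih, smul_smul, pow_succ, mul_comm]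

/-- the eigenvalues of 2-elements -/
theorem eigen_eq_one (hF : Fintype.card F = 2 ^ 2) {x : SU n F 2} {k : ℕ} (hx : x ^ 2 ^ k = 1)
    {r : Fin n → F} (hr : r ≠ 0) {c : F} (h : act x r = c • r) : c = 1 := by
  have := charP_two hF
  have : Fact (Nat.Prime 2) := ⟨Nat.prime_two⟩
  have h1 := act_pow_smul h (2 ^ k)
  rw [hx, act_one] at h1
  have h2 : (c ^ 2 ^ k - 1) • r = 0 := by rw [sub_smul, one_smul, ← h1, sub_self]
  have h3 : c ^ 2 ^ k - 1 = 0 := (smul_eq_zero.1 h2).resolve_right hr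
  have h4 : (c - 1) ^ 2 ^ k = 0 := by rw [sub_pow_char_pow, one_pow, h3]
  exact sub_eq_zero.1 ((pow_eq_zero_iff (pow_ne_zero k two_ne_zero)).1 h4)

/-- the key relation -/
theorem Good.key (hF : Fintype.card F = 2 ^ 2) (hB : Good B) {w : SU n F 2} (hw : w ∈ B) (hw2 : w * w = 1)
    (hw1 : w ≠ 1) {x : SU n F 2} (hx : x ∈ B) (hxw : x * w = w * x) {r u y : Fin n → F} (hr : Rd w r)
    (hu : act w u = u) (hy : act w y = y) :
    hermForm n F 2 y u • r = hermForm n F 2 y (act x u) • act x r := by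
  obtain ⟨μ, hμ⟩ := exists_siegel hF hr.self (hr.left hu)
  have hcw : siegel hF r u μ hμ * w = w * siegel hF r u μ hμ := siegel_comm hF hμ hr.1 hu
  set ψ := siegel hF r u μ hμ with hψ
  have hg := hB.comm_mem hw hw2 hw1 hcw hx
  -- `ψ` on fixed vectors
  have h1 : ∀ z, act w z = z → act ψ z = z + hermForm n F 2 z u • r := by
    intro z hz
    rw [hψ, act_siegel, hr.left hz, mul_zero, zero_smul, zero_sub, neg_self hF, add_zero]
  have h2 : ∀ z, act w z = z → act (x * ψ * x⁻¹) z = z + hermForm n F 2 z (act x u) • act x r := by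
    intro z hz
    rw [hψ, conj_siegel hF hμ x, act_siegel, (hr.map hxw).left hz, mul_zero, zero_smul, zero_sub, neg_self hF,
      add_zero]
  have h3 : ∀ z, Rd w z → act ψ z = z := by
    intro z hz
    rw [h1 z hz.1, hz.right hF hu, zero_smul, add_zero]
  have h4 : ∀ z, Rd w z → act (x * ψ * x⁻¹ * ψ⁻¹) z = z := by
    intro z hz
    have h5 : act ψ⁻¹ z = z := by
      conv_lhs => rw [← h3 z hz]
      rw [act_inv_act]
    rw [act_mul, h5, h2 z hz.1, hz.right hF (fix_act hxw hu), zero_smul, add_zero]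
  have hs : Rd w (hermForm n F 2 y u • r + hermForm n F 2 y (act x u) • act x r) :=
    (hr.smul _).add hF ((hr.map hxw).smul _)
  have hv : act w (act ψ y) = act ψ y := fix_act hcw hy
  have h6 : act (x * ψ * x⁻¹ * ψ⁻¹) (act ψ y) = act ψ y +
      (hermForm n F 2 y u • r + hermForm n F 2 y (act x u) • act x r) := by
    rw [act_mul, act_inv_act, h2 y hy, h1 y hy]
    have h7 := vadd_self hF (hermForm n F 2 y u • r)
    calc y + hermForm n F 2 y (act x u) • act x r
        = y + (hermForm n F 2 y u • r + hermForm n F 2 y u • r) + hermForm n F 2 y (act x u) • act x r := by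
          rw [h7, add_zero]
      _ = _ := by abel
  have h8 := hB.claim hF hw hw2 hw1 hg hs.1 hs.self hv (hs.left hv) (h4 _ hs) h6
  have h9 := congrArg (fun z => z + hermForm n F 2 y (act x u) • act x r) h8
  simp only [add_assoc, vadd_self hF, add_zero, zero_add] at h9
  exact h9

/-- the fixed space of `w` is not totally isotropic: 2-elements of `C_B(w)` act trivially on it -/
theorem Good.fix_of_ne (hF : Fintype.card F = 2 ^ 2) (hB : Good B) {w : SU n F 2} (hw : w ∈ B) (hw2 : w * w = 1)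
    (hw1 : w ≠ 1) {x : SU n F 2} (hx : x ∈ B) {k : ℕ} (hx2 : x ^ 2 ^ k = 1) (hxw : x * w = w * x)
    {y₀ u₀ : Fin n → F} (hy₀ : act w y₀ = y₀) (hu₀ : act w u₀ = u₀) (h0 : hermForm n F 2 y₀ u₀ ≠ 0)
    {u : Fin n → F} (hu : act w u = u) : act x u = u := by
  have key : ∀ {r u y : Fin n → F}, Rd w r → act w u = u → act w y = y →
      hermForm n F 2 y u • r = hermForm n F 2 y (act x u) • act x r :=
    fun hr hu hy => hB.key hF hw hw2 hw1 hx hxw hr hu hy
  obtain ⟨z, hz⟩ : ∃ z, Nw w z ≠ 0 := by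
    by_contra hcon
    push Not at hcon
    apply hw1
    apply ext_act
    intro v
    rw [(Nw_eq_zero hF).1 (hcon v), act_one]
  have hr0 := Rd_Nw hF hw2 z
  set r₀ := Nw w z with hr₀
  have h1 := key hr0 hu₀ hy₀
  have h2 : hermForm n F 2 y₀ (act x u₀) ≠ 0 := by
    intro h
    rw [h, zero_smul, smul_eq_zero] at h1
    rcases h1 with h1 | h1
    · exact h0 h1
    · exact hz h1
  have h3 : act x r₀ = (hermForm n F 2 y₀ u₀ / hermForm n F 2 y₀ (act x u₀)) • r₀ := by
    rw [div_eq_inv_mul, mul_smul, h1, smul_smul, inv_mul_cancel₀ h2, one_smul]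
  have h4 := eigen_eq_one hF hx2 hz h3
  have h5 : hermForm n F 2 y₀ u₀ = hermForm n F 2 y₀ (act x u₀) := by
    rwa [div_eq_one_iff_eq h2] at h4
  have h6 : ∀ r, Rd w r → act x r = r := by
    intro r hr
    have h7 := key hr hu₀ hy₀
    rw [← h5] at h7
    exact (smul_right_injective _ h0 h7).symm
  have h7 : ∀ y, act w y = y → hermForm n F 2 y (act x u + u) = 0 := by
    intro y hy
    have h8 := key hr0 hu hy
    rw [h6 _ hr0, ← sub_eq_zero, ← sub_smul, smul_eq_zero] at h8
    have h9 := sub_eq_zero.1 (h8.resolve_right hz)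
    rw [herm_add_right hF, ← h9, add_self hF]
  have h8 : Rd w (act x u + u) :=
    ⟨by rw [act_add, fix_act hxw hu, hu], fun y hy => h7 y hy⟩
  have h9 := hB.claim hF hw hw2 hw1 hx h8.1 h8.self hu (h8.left hu) (h6 _ h8) (by
    rw [add_comm (act x u) u, ← add_assoc, vadd_self hF, zero_add])
  have h10 := congrArg (fun z => z + u) h9
  simpa only [add_assoc, vadd_self hF, add_zero, zero_add] using h10

/-! ### Orthogonal vectors -/

omit [Fintype F] in
/-- The linear functional `x ↦ h(x, v)`. -/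
def hL (v : Fin n → F) : (Fin n → F) →ₗ[F] F where
  toFun x := hermForm n F 2 x v
  map_add' x y := herm_add_left x y v
  map_smul' c x := herm_smul_left c x v

omit [Fintype F] in
theorem exists_orth_four (hn : 5 ≤ n) (a b c d : Fin n → F) :
    ∃ x : Fin n → F, x ≠ 0 ∧ hermForm n F 2 x a = 0 ∧ hermForm n F 2 x b = 0 ∧ hermForm n F 2 x c = 0 ∧
      hermForm n F 2 x d = 0 := by
  have h : LinearMap.ker (((hL a).prod (hL b)).prod ((hL c).prod (hL d)) :
      (Fin n → F) →ₗ[F] (F × F) × (F × F)) ≠ ⊥ := by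
    apply LinearMap.ker_ne_bot_of_finrank_lt
    simp
    omega
  obtain ⟨x, hx, hx0⟩ := (Submodule.ne_bot_iff _).1 h
  rw [LinearMap.mem_ker] at hx
  simp only [LinearMap.prod_apply, Function.prod_apply, Prod.mk_eq_zero] at hx
  exact ⟨x, hx0, hx.1.1, hx.1.2, hx.2.1, hx.2.2⟩

/-- the orthogonal complement of two independent vectors is not totally isotropic if `n ≥ 5` -/
theorem exists_pair (hF : Fintype.card F = 2 ^ 2) (hn : 5 ≤ n) {p s : Fin n → F} (hp : p ≠ 0)
    (hs : ∀ c : F, s ≠ c • p) :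
    ∃ y₁ y₂ : Fin n → F, hermForm n F 2 y₁ p = 0 ∧ hermForm n F 2 y₁ s = 0 ∧ hermForm n F 2 y₂ p = 0 ∧
      hermForm n F 2 y₂ s = 0 ∧ hermForm n F 2 y₁ y₂ ≠ 0 := by
  by_contra hcon
  push Not at hcon
  have hex : ∀ v : Fin n → F, v ≠ 0 → ∃ z, hermForm n F 2 z v = 1 := by
    intro v hv
    obtain ⟨y, hy⟩ := exists_herm_ne_zero hF hv
    have h1 : hermForm n F 2 y v ≠ 0 := fun h => hy (herm_eq_zero_swap hF h)
    exact ⟨(hermForm n F 2 y v)⁻¹ • y, by rw [herm_smul_left, inv_mul_cancel₀ h1]⟩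
  obtain ⟨z₁, hz₁⟩ := hex p hp
  set s' := s - (hermForm n F 2 z₁ s) ^ 2 • p with hs'
  have hs0 : s' ≠ 0 := fun h => hs _ (sub_eq_zero.1 h)
  have h1 : hermForm n F 2 z₁ s' = 0 := by
    rw [hs', herm_sub_right hF, herm_smul_right, hz₁, mul_one, pow_q_pow_q hF, sub_self]
  obtain ⟨z₂, hz₂⟩ := hex s' hs0
  set z := z₂ - hermForm n F 2 z₂ p • z₁ with hz
  have h2 : hermForm n F 2 z p = 0 := by
    rw [hz, herm_sub_left, herm_smul_left, hz₁, mul_one, sub_self]
  have h3 : hermForm n F 2 z s' = 1 := by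
    rw [hz, herm_sub_left, herm_smul_left, h1, mul_zero, sub_zero, hz₂]
  obtain ⟨u, hu0, hup, hus, hu1, hu2⟩ := exists_orth_four hn p s z₁ z
  apply hu0
  apply herm_nondeg hF
  intro y
  have h4 : hermForm n F 2 (y - hermForm n F 2 y p • z₁ - hermForm n F 2 y s' • z) p = 0 := by
    rw [herm_sub_left, herm_sub_left, herm_smul_left, herm_smul_left, hz₁, h2]
    ring
  have h5 : hermForm n F 2 (y - hermForm n F 2 y p • z₁ - hermForm n F 2 y s' • z) s' = 0 := by
    rw [herm_sub_left, herm_sub_left, herm_smul_left, herm_smul_left, h1, h3]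
    ring
  have h6 : hermForm n F 2 (y - hermForm n F 2 y p • z₁ - hermForm n F 2 y s' • z) s = 0 := by
    have h7 : s = s' + (hermForm n F 2 z₁ s) ^ 2 • p := by rw [hs', sub_add_cancel]
    rw [h7, herm_add_right hF, h5, herm_smul_right, h4, mul_zero, add_zero]
  have h7 := hcon u _ hup hus h4 h6
  rw [herm_sub_right hF, herm_sub_right hF, herm_smul_right, herm_smul_right, hu1, hu2, mul_zero, mul_zero,
    sub_zero, sub_zero] at h7
  exact h7

end Cfsg.Agent.OddHalf.D4.Un2

end

-- merged: Cfsg.Agent.OddHalf.D4.Un2.Max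
section

/-!
# ODD, D4, row `U_n(2)`: involutions with maximal fixed space

`MaxI B w`: `w` is an involution of `B` with maximal fixed space. `Good.eq_one_or`: the 2-elements of `C_B(w)` are
`1` and `w` (if `n ≥ 5`).
-/

set_option autoImplicit false

namespace Cfsg.Agent.OddHalf.D4.Un2

open Cfsg Cfsg.Agent.LieClassical.HermBasic Cfsg.Agent.LieClassical.HermSiegel
  Cfsg.Agent.LieClassical.HermGen Cfsg.Agent.ClassicalGeometry.PSUAutBasic Matrix

variable {F : Type*} [Field F] [Fintype F] {n : ℕ}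

omit [Fintype F] in
/-- `w` is an involution of `B` with maximal fixed space. -/
structure MaxI (B : Subgroup (SU n F 2)) (w : SU n F 2) : Prop where
  mem : w ∈ B
  sq : w * w = 1
  ne : w ≠ 1
  max : ∀ g ∈ B, g * g = 1 → g ≠ 1 → (∀ u, act w u = u → act g u = u) → ∀ u, act g u = u → act w u = u

variable {B : Subgroup (SU n F 2)}

theorem exists_maxI (h : ∃ w ∈ B, w * w = 1 ∧ w ≠ 1) : ∃ w, MaxI B w := by
  classical
  obtain ⟨w, ⟨hw1, hw2, hw3⟩, hmax⟩ := Set.exists_max_image {w : SU n F 2 | w ∈ B ∧ w * w = 1 ∧ w ≠ 1}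
    (fun w => Set.ncard {u : Fin n → F | act w u = u}) (Set.toFinite _) h
  refine ⟨w, hw1, hw2, hw3, ?_⟩
  intro g hg hg2 hg1 hle u hu
  have h1 := Set.eq_of_subset_of_ncard_le (s := {u : Fin n → F | act w u = u}) (t := {u : Fin n → F | act g u = u})
    hle (hmax g ⟨hg, hg2, hg1⟩) (Set.toFinite _)
  have h2 : u ∈ {u : Fin n → F | act g u = u} := hu
  rw [← h1] at h2
  exact h2

/-! ### Transvections -/

omit [Fintype F] in
/-- conjugate of a transvection -/
theorem conj_tv {t : SU n F 2} {v : Fin n → F} (ht : ∀ y, act t y = y + hermForm n F 2 y v • v) (x : SU n F 2)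
    (y : Fin n → F) : act (x * t * x⁻¹) y = y + hermForm n F 2 y (act x v) • act x v := by
  rw [act_mul, act_mul, ht, act_add, act_smul, act_act_inv]
  have h := herm_act x (act x⁻¹ y) v
  rw [act_act_inv] at h
  rw [h]

omit [Fintype F] in
theorem tv_comm {w t : SU n F 2} (hw : w * w = 1) {v : Fin n → F}
    (ht : ∀ y, act t y = y + hermForm n F 2 y v • v) (hv : act w v = v) : t * w = w * t := by
  apply ext_act
  intro y
  rw [act_mul, act_mul, ht, ht, act_add, act_smul, hv, herm_w hw, hv]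

theorem smul_self_add (hF : Fintype.card F = 2 ^ 2) (v : Fin n → F) (c : F) : c • v + c • v = 0 := vadd_self hF _

/-- `h(y, v) v + h(y, v') v' = 0` for all `y` implies `v' = c v` -/
theorem exists_smul_of_sum (hF : Fintype.card F = 2 ^ 2) {v v' : Fin n → F} (hv' : v' ≠ 0)
    (h : ∀ y, hermForm n F 2 y v • v + hermForm n F 2 y v' • v' = 0) : ∃ c : F, v' = c • v := by
  obtain ⟨y, hy⟩ := exists_herm_ne_zero hF hv'
  have h1 : hermForm n F 2 y v' ≠ 0 := fun h => hy (herm_eq_zero_swap hF h)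
  have h2 := h y
  refine ⟨(hermForm n F 2 y v')⁻¹ * hermForm n F 2 y v, ?_⟩
  have h3 : hermForm n F 2 y v' • v' = hermForm n F 2 y v • v := by
    have h4 := congrArg (fun z => z + hermForm n F 2 y v • v) h2
    simp only [zero_add] at h4
    rw [← h4]
    have h5 := vadd_self hF (hermForm n F 2 y v • v)
    calc hermForm n F 2 y v' • v' = hermForm n F 2 y v' • v' +
        (hermForm n F 2 y v • v + hermForm n F 2 y v • v) := by rw [h5, add_zero]
      _ = _ := by abel
  rw [mul_smul, ← h3, smul_smul, inv_mul_cancel₀ h1, one_smul]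

/-- the fixed space of `w` is totally isotropic, `n ≥ 5` -/
theorem Good.fix_of_iso (hF : Fintype.card F = 2 ^ 2) (hn : 5 ≤ n) (hB : Good B) {w : SU n F 2} (hw : MaxI B w)
    {x : SU n F 2} (hx : x ∈ B) {k : ℕ} (hx2 : x ^ 2 ^ k = 1) (hxw : x * w = w * x)
    (hiso : ∀ y u, act w y = y → act w u = u → hermForm n F 2 y u = 0) {v : Fin n → F} (hv : act w v = v) :
    act x v = v := by
  by_cases hv0 : v = 0
  · rw [hv0, act_zero]
  by_cases hc : ∃ c : F, act x v = c • v
  · obtain ⟨c, hc⟩ := hc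
    rw [hc, eigen_eq_one hF hx2 hv0 hc, one_smul]
  exfalso
  push Not at hc
  have hxv : act w (act x v) = act x v := fix_act hxw hv
  obtain ⟨t, ht⟩ := exists_tv hF (hiso v v hv hv)
  have htw := tv_comm hw.sq ht hv
  have hg := hB.comm_mem hw.mem hw.sq hw.ne htw hx
  have htt : ∀ y, act t (act t y) = y := by
    intro y
    rw [ht (act t y), ht y, herm_add_left, herm_smul_left, hiso v v hv hv, mul_zero, add_zero, add_assoc,
      vadd_self hF, add_zero]
  have hform : ∀ y, act (x * t * x⁻¹ * t⁻¹) y = y + hermForm n F 2 y v • v +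
      hermForm n F 2 y (act x v) • act x v := by
    intro y
    have h1 : act t⁻¹ y = act t y := by
      rw [← htt y, act_inv_act, htt]
    rw [act_mul, h1, conj_tv ht, ht, herm_add_left, herm_smul_left, hiso v (act x v) hv hxv, mul_zero, add_zero]
  have hfix : ∀ y, hermForm n F 2 y v = 0 → hermForm n F 2 y (act x v) = 0 →
      act (x * t * x⁻¹ * t⁻¹) y = y := by
    intro y h1 h2
    rw [hform, h1, h2, zero_smul, zero_smul, add_zero, add_zero]
  have hg2 : (x * t * x⁻¹ * t⁻¹) * (x * t * x⁻¹ * t⁻¹) = 1 := by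
    apply ext_act
    intro y
    rw [act_mul, act_one, hform (act _ y), hform y]
    simp only [herm_add_left, herm_smul_left, hiso v v hv hv, hiso v (act x v) hv hxv,
      hiso (act x v) v hxv hv, hiso (act x v) (act x v) hxv hxv, mul_zero, add_zero]
    have h1 := vadd_self hF (hermForm n F 2 y v • v)
    have h2 := vadd_self hF (hermForm n F 2 y (act x v) • act x v)
    calc _ = y + (hermForm n F 2 y v • v + hermForm n F 2 y v • v) +
        (hermForm n F 2 y (act x v) • act x v + hermForm n F 2 y (act x v) • act x v) := by abel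
      _ = y := by rw [h1, h2, add_zero, add_zero]
  have hg1 : x * t * x⁻¹ * t⁻¹ ≠ 1 := by
    intro h
    obtain ⟨c, hc'⟩ := exists_smul_of_sum hF (v' := act x v)
      (fun h0 => hv0 (act_injective x (by rw [h0, act_zero]))) (fun y => by
        have h1 := hform y
        rw [h, act_one, add_assoc] at h1
        exact (left_eq_add.1 h1))
    exact hc c hc'
  obtain ⟨y₁, y₂, h1, h2, h3, h4, h5⟩ := exists_pair hF hn hv0 hc
  have hmax := hw.max _ hg hg2 hg1 (fun u hu => hfix u (hiso u v hu hv) (hiso u _ hu hxv))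
  exact h5 (hiso y₁ y₂ (hmax _ (hfix _ h1 h2)) (hmax _ (hfix _ h3 h4)))

/-- 2-elements of `C_B(w)` act trivially on the fixed space of `w`, `n ≥ 5` -/
theorem Good.fix (hF : Fintype.card F = 2 ^ 2) (hn : 5 ≤ n) (hB : Good B) {w : SU n F 2} (hw : MaxI B w)
    {x : SU n F 2} (hx : x ∈ B) {k : ℕ} (hx2 : x ^ 2 ^ k = 1) (hxw : x * w = w * x) {v : Fin n → F}
    (hv : act w v = v) : act x v = v := by
  by_cases h : ∀ y u, act w y = y → act w u = u → hermForm n F 2 y u = 0
  · exact hB.fix_of_iso hF hn hw hx hx2 hxw h hv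
  · push Not at h
    obtain ⟨y₀, u₀, h1, h2, h3⟩ := h
    exact hB.fix_of_ne hF hw.mem hw.sq hw.ne hx hx2 hxw h1 h2 h3 hv

/-! ### The second half -/

/-- an involution which is not a transvection moves a vector `a` with `h(a, wa + a) = 0` -/
theorem exists_iso_vec (hF : Fintype.card F = 2 ^ 2) {w : SU n F 2} (hw : w * w = 1) (hw1 : w ≠ 1)
    (hnt : ∀ v : Fin n → F, v ≠ 0 → hermForm n F 2 v v = 0 → ¬ ∀ y, act w y = y + hermForm n F 2 y v • v) :
    ∃ a, act w a ≠ a ∧ hermForm n F 2 a (Nw w a) = 0 := by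
  by_contra hcon
  push Not at hcon
  obtain ⟨y₀, hy₀⟩ : ∃ z, Nw w z ≠ 0 := by
    by_contra hcon
    push Not at hcon
    apply hw1
    apply ext_act
    intro v
    rw [(Nw_eq_zero hF).1 (hcon v), act_one]
  have hone : ∀ a, Nw w a ≠ 0 → hermForm n F 2 a (Nw w a) = 1 := by
    intro a ha
    have h1 := hcon a (fun h => ha ((Nw_eq_zero hF).2 h))
    have h2 : hermForm n F 2 a (Nw w a) ^ 2 = hermForm n F 2 a (Nw w a) := by
      rw [← herm_swap hF, herm_Nw hF hw]
    exact (fixed h2).resolve_left h1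
  refine hnt (Nw w y₀) hy₀ (Rd_Nw hF hw y₀).self fun y => ?_
  rw [act_eq hF]
  congr 1
  set c := hermForm n F 2 y (Nw w y₀) with hc
  have h1 : hermForm n F 2 (y + c • y₀) (Nw w y₀) = 0 := by
    rw [herm_add_left, herm_smul_left, hone _ hy₀, mul_one, ← hc, add_self hF]
  have h2 : Nw w (y + c • y₀) = 0 := by
    by_contra h2
    have h3 := hone _ h2
    have h4 : hermForm n F 2 y₀ (Nw w (y + c • y₀)) = 0 := by
      rw [← herm_Nw hF hw]
      exact herm_eq_zero_swap hF h1
    have h5 : Nw w (y + c • y₀ + y₀) = Nw w (y + c • y₀) + Nw w y₀ := Nw_add _ _ _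
    have h6 : hermForm n F 2 (y + c • y₀ + y₀) (Nw w (y + c • y₀ + y₀)) = 0 := by
      rw [h5, herm_add_left, herm_add_right hF, herm_add_right hF, h3, h1, h4, hone _ hy₀, add_zero, zero_add,
        add_self hF]
    have h7 : act w (y + c • y₀ + y₀) = y + c • y₀ + y₀ := by
      by_contra h7
      exact hcon _ h7 h6
    rw [← Nw_eq_zero hF, h5] at h7
    have h8 : Nw w (y + c • y₀) = Nw w y₀ := by
      have h9 := congrArg (fun z => z + Nw w y₀) h7
      simpa only [add_assoc, vadd_self hF, add_zero, zero_add] using h9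
    rw [← h8, h3] at h1
    exact one_ne_zero h1
  rw [Nw_add, Nw_smul] at h2
  have h9 := congrArg (fun z => z + c • Nw w y₀) h2
  simpa only [add_assoc, vadd_self hF, add_zero, zero_add] using h9

section Half

variable {w x : SU n F 2}

theorem Rd_Nx (hF : Fintype.card F = 2 ^ 2) (hw : w * w = 1) (hxw : x * w = w * x)
    (hfix : ∀ u, act w u = u → act x u = u) (y : Fin n → F) : Rd w (Nw x y) := by
  constructor
  · have h1 : Nw x (Nw w y) = 0 := (Nw_eq_zero hF).2 (hfix _ (act_Nw hw y))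
    calc act w (Nw x y) = Nw x (act w y) := Nw_comm hxw.symm y
      _ = Nw x y + Nw x (Nw w y) := by rw [act_eq hF w y, Nw_add]
      _ = Nw x y := by rw [h1, add_zero]
  · intro u hu
    rw [Nw, herm_add_right hF]
    have h1 : hermForm n F 2 u (act x y) = hermForm n F 2 u y := by
      conv_lhs => rw [← hfix u hu]
      rw [herm_act]
    rw [h1, add_self hF]

theorem sq_x (hF : Fintype.card F = 2 ^ 2) (hw : w * w = 1) (hxw : x * w = w * x)
    (hfix : ∀ u, act w u = u → act x u = u) : x * x = 1 := by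
  apply ext_act
  intro y
  have h1 := hfix _ (Rd_Nx hF hw hxw hfix y).1
  rw [act_mul, act_one, act_eq hF x y, act_add, h1, act_eq hF x y, add_assoc, vadd_self hF, add_zero]

omit [Fintype F] in
theorem sq_xw (hw : w * w = 1) (hx : x * x = 1) (hxw : x * w = w * x) : (x * w) * (x * w) = 1 := by
  calc x * w * (x * w) = x * (w * x) * w := by group
    _ = x * (x * w) * w := by rw [hxw]
    _ = (x * x) * (w * w) := by group
    _ = 1 := by rw [hx, hw, one_mul]

/-- the fixed space of `x` -/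
theorem fix_x (hF : Fintype.card F = 2 ^ 2) (hw : MaxI B w) (hx : x ∈ B) (hxw : x * w = w * x)
    (hfix : ∀ u, act w u = u → act x u = u) (hx1 : x ≠ 1) {u : Fin n → F} (hu : act x u = u) : act w u = u :=
  hw.max x hx (sq_x hF hw.sq hxw hfix) hx1 hfix u hu

/-- the fixed space of `x w` -/
theorem fix_xw (hF : Fintype.card F = 2 ^ 2) (hw : MaxI B w) (hx : x ∈ B) (hxw : x * w = w * x)
    (hfix : ∀ u, act w u = u → act x u = u) (hxw1 : x ≠ w) {u : Fin n → F} (hu : act (x * w) u = u) :
    act w u = u := by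
  refine hw.max (x * w) (B.mul_mem hx hw.mem) (sq_xw hw.sq (sq_x hF hw.sq hxw hfix) hxw) ?_ ?_ u hu
  · intro h
    apply hxw1
    calc x = (x * w) * w := by rw [mul_assoc, hw.sq, mul_one]
      _ = w := by rw [h, one_mul]
  · intro u hu
    rw [act_mul, hu, hfix u hu]

/-- the main computation, for isotropic `a` -/
theorem Good.dich_iso (hF : Fintype.card F = 2 ^ 2) (hB : Good B) (hw : MaxI B w) (hx : x ∈ B)
    (hxw : x * w = w * x) (hfix : ∀ u, act w u = u → act x u = u) (hx1 : x ≠ 1)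
    (hxw1 : x ≠ w) {a : Fin n → F} (ha : act w a ≠ a) (haa : hermForm n F 2 a a = 0)
    (haN : hermForm n F 2 a (Nw w a) = 0) :
    hermForm n F 2 a (Nw x a) = 1 ∧ ∀ y, Nw w y = hermForm n F 2 y (Nw w a) • (Nw x a + Nw w a) +
      hermForm n F 2 y (Nw x a) • Nw w a := by
  have hxx := sq_x hF hw.sq hxw hfix
  have he : Rd w (Nw w a) := Rd_Nw hF hw.sq a
  have he' : Rd w (Nw x a) := Rd_Nx hF hw.sq hxw hfix a
  have hwa : act w a = a + Nw w a := act_eq hF w a
  have hxa : act x a = a + Nw x a := act_eq hF x a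
  have hNa : Nw w a ≠ 0 := fun h => ha ((Nw_eq_zero hF).1 h)
  have hself : hermForm n F 2 (Nw x a) a = hermForm n F 2 a (Nw x a) := herm_Nw hF hxx a a
  have hselfw : hermForm n F 2 (Nw w a) a = 0 := by rw [herm_Nw hF hw.sq, haN]
  have hδ : hermForm n F 2 a (Nw x a) ^ 2 = hermForm n F 2 a (Nw x a) := by
    rw [← herm_swap hF, hself]
  set e := Nw w a with hedef
  set e' := Nw x a with he'def
  set δ := hermForm n F 2 a e' with hδdef
  have hee : hermForm n F 2 e e = 0 := he.self
  have hee' : hermForm n F 2 e e' = 0 := he'.left he.1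
  have he'e : hermForm n F 2 e' e = 0 := he.left he'.1
  have he'e' : hermForm n F 2 e' e' = 0 := he'.self
  -- the transvections
  obtain ⟨t₁, ht₁⟩ := exists_tv hF haa
  obtain ⟨t₂, ht₂⟩ := exists_tv hF (v := act w a) (by rw [herm_act, haa])
  have hwaa : hermForm n F 2 (act w a) a = 0 := by rw [hwa, herm_add_left, haa, hselfw, add_zero]
  have hawa : hermForm n F 2 a (act w a) = 0 := herm_eq_zero_swap hF hwaa
  obtain ⟨c, hc⟩ : ∃ c : SU n F 2, ∀ y, act c y = y + hermForm n F 2 y (act w a) • act w a +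
      hermForm n F 2 y a • a := by
    refine ⟨t₁ * t₂, fun y => ?_⟩
    rw [act_mul, ht₁, ht₂, herm_add_left, herm_smul_left, hwaa, mul_zero, add_zero]
  have hcw : c * w = w * c := by
    apply ext_act
    intro y
    have h1 : hermForm n F 2 (act w y) a = hermForm n F 2 y (act w a) := herm_w hw.sq y a
    rw [act_mul, act_mul, hc, hc, herm_act, h1, act_add, act_add, act_smul, act_smul, act_act hw.sq]
    abel
  -- `c` on `e`, `e'`
  have hce : act c e = e := by
    rw [hc, hselfw, hwa, herm_add_right hF, hselfw, hee, add_zero, zero_smul, zero_smul, add_zero, add_zero]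
  have hce' : act c e' = e' + δ • e := by
    rw [hc, hwa, herm_add_right hF, hself, he'e, add_zero, smul_add]
    have h1 := vadd_self hF (δ • a)
    calc e' + (δ • a + δ • e) + δ • a = e' + δ • e + (δ • a + δ • a) := by abel
      _ = e' + δ • e := by rw [h1, add_zero]
  have hce'' : act c (e' + δ • e) = e' := by
    rw [act_add, act_smul, hce', hce, add_assoc, vadd_self hF, add_zero]
  have h1 : ∀ z, hermForm n F 2 (act c z) e = hermForm n F 2 z e := by
    intro z
    conv_lhs => rw [← hce]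
    rw [herm_act]
  have h2 : ∀ z, hermForm n F 2 (act c z) e' = hermForm n F 2 z e' + δ * hermForm n F 2 z e := by
    intro z
    conv_lhs => rw [← hce'']
    rw [herm_act, herm_add_right hF, herm_smul_right, hδ]
  -- the commutator
  have hg := hB.comm_mem hw.mem hw.sq hw.ne hcw hx
  have hxe : act x e = e := hfix _ he.1
  have hxwa : act x (act w a) = a + e' + e := by rw [hwa, act_add, hxa, hxe]
  have hform : ∀ y, act (x * c * x⁻¹ * c⁻¹) y = y + hermForm n F 2 y e • (e' + δ • e) +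
      hermForm n F 2 y e' • e := by
    intro y
    obtain ⟨z, rfl⟩ : ∃ z, y = act c z := ⟨_, (act_act_inv _ y).symm⟩
    rw [act_mul, act_inv_act, h1, h2]
    have h3 : act (x * c * x⁻¹) z = z + hermForm n F 2 z (act x (act w a)) • act x (act w a) +
        hermForm n F 2 z (act x a) • act x a := by
      rw [act_mul, act_mul, hc, act_add, act_add, act_smul, act_smul, act_act_inv]
      have h4 : ∀ v, hermForm n F 2 (act x⁻¹ z) v = hermForm n F 2 z (act x v) := by
        intro v
        rw [← herm_act x (act x⁻¹ z) v, act_act_inv]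
      rw [h4, h4]
    rw [h3, hxwa, hxa, hc, hwa]
    simp only [herm_add_right hF]
    funext i
    simp only [Pi.add_apply, Pi.smul_apply, smul_eq_mul]
    linear_combination (hermForm n F 2 z a * e' i + hermForm n F 2 z e' * (a i + e' i)) *
      add_self hF (1 : F) - hermForm n F 2 z e * e i * δ * add_self hF (1 : F)
  obtain ⟨g, hg, hform⟩ : ∃ g ∈ B, ∀ y, act g y = y + hermForm n F 2 y e • (e' + δ • e) +
      hermForm n F 2 y e' • e := ⟨_, hg, hform⟩
  clear hcw hce hce' hce'' h1 h2 hc ht₁ ht₂ hwaa hawa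
  by_cases hκ : ∃ κ : F, e' = κ • e
  · exfalso
    obtain ⟨κ, hκ⟩ := hκ
    have hδ0 : δ = 0 := by rw [hδdef, hκ, herm_smul_right, haN, mul_zero]
    have h3 : ∀ y, act g y = y + ((κ + κ ^ 2) * hermForm n F 2 y e) • e := by
      intro y
      rw [hform, hδ0, hκ, herm_smul_right]
      funext i
      simp only [Pi.add_apply, Pi.smul_apply, smul_eq_mul]
      ring
    have h4 : (κ + κ ^ 2) ^ 2 = κ + κ ^ 2 := by rw [add_pow_q hF, pow_q_pow_q hF, add_comm]
    rcases fixed h4 with h5 | h5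
    · have h6 : κ ^ 2 = κ := by linear_combination h5 - add_self hF κ
      rcases fixed h6 with h7 | h7
      · apply ha
        apply fix_x hF hw hx hxw hfix hx1
        rw [hxa, hκ, h7, zero_smul, add_zero]
      · apply ha
        apply fix_xw hF hw hx hxw hfix hxw1
        rw [act_mul, hxwa, hκ, h7, one_smul, add_assoc, vadd_self hF, add_zero]
    · exact hB.non g hg e hNa hee fun y => by rw [h3, h5, one_mul]
  · push Not at hκ
    -- `g` is an involution
    have hMe : ∀ y, hermForm n F 2 (act g y) e = hermForm n F 2 y e := by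
      intro y
      rw [hform]
      simp only [herm_add_left, herm_smul_left, hee, he'e, mul_zero, add_zero]
    have hMe' : ∀ y, hermForm n F 2 (act g y) e' = hermForm n F 2 y e' := by
      intro y
      rw [hform]
      simp only [herm_add_left, herm_smul_left, hee', he'e', mul_zero, add_zero]
    have hg2 : g * g = 1 := by
      apply ext_act
      intro y
      rw [act_mul, act_one, hform (act g y), hMe, hMe', hform y]
      funext i
      simp only [Pi.add_apply, Pi.smul_apply, smul_eq_mul]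
      linear_combination (hermForm n F 2 y e * (e' i + δ * e i) + hermForm n F 2 y e' * e i) * add_self hF (1 : F)
    have hg1 : g ≠ 1 := by
      intro h
      obtain ⟨z, hz⟩ := exists_herm_ne_zero hF hNa
      have hz' : hermForm n F 2 z e ≠ 0 := fun h => hz (herm_eq_zero_swap hF h)
      have h3 := hform z
      rw [h, act_one, add_assoc] at h3
      have h4 := left_eq_add.1 h3
      apply hκ (δ + (hermForm n F 2 z e)⁻¹ * hermForm n F 2 z e')
      funext i
      have h5 := congrFun h4 i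
      simp only [Pi.add_apply, Pi.smul_apply, smul_eq_mul, Pi.zero_apply] at h5 ⊢
      field_simp
      linear_combination h5 - (δ * hermForm n F 2 z e * e i + hermForm n F 2 z e' * e i) * add_self hF (1 : F)
    have hgfix : ∀ u, act w u = u → act g u = u := by
      intro u hu
      rw [hform, he.left hu, he'.left hu, zero_smul, zero_smul, add_zero, add_zero]
    have hmax := hw.max g hg hg2 hg1 hgfix
    have hga : act g a = a + δ • e := by
      rw [hform, haN, zero_smul, add_zero, ← hδdef]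
    have hδ1 : δ = 1 := by
      rcases fixed hδ with h3 | h3
      · exact absurd (hmax a (by rw [hga, h3, zero_smul, add_zero])) ha
      · exact h3
    -- `g = w`
    have hwg : g * w = w * g := by
      apply ext_act
      intro y
      have h3 : hermForm n F 2 (act w y) e = hermForm n F 2 y e := by rw [herm_w hw.sq, he.1]
      have h4 : hermForm n F 2 (act w y) e' = hermForm n F 2 y e' := by rw [herm_w hw.sq, he'.1]
      rw [act_mul, act_mul, hform, h3, h4, hform, act_add, act_add, act_smul, act_smul, act_add, act_smul, he.1,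
        he'.1]
    have hgw : g = w := by
      by_contra hne
      apply ha
      refine hw.max (w * g) (B.mul_mem hw.mem hg) ?_ ?_ ?_ a ?_
      · calc w * g * (w * g) = w * (g * w) * g := by group
          _ = w * (w * g) * g := by rw [hwg]
          _ = (w * w) * (g * g) := by group
          _ = 1 := by rw [hw.sq, hg2, one_mul]
      · intro h
        apply hne
        calc g = (w * w) * g := by rw [hw.sq, one_mul]
          _ = w * (w * g) := by rw [mul_assoc]
          _ = w := by rw [h, mul_one]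
      · intro u hu
        rw [act_mul, hgfix u hu, hu]
      · rw [act_mul, hga, hδ1, one_smul, act_add, he.1, hwa, add_assoc, vadd_self hF, add_zero]
    refine ⟨hδ1, fun y => ?_⟩
    have h3 := hform y
    rw [hgw, hδ1, one_smul] at h3
    rw [Nw_def, h3]
    have h4 := vadd_self hF y
    calc y + hermForm n F 2 y e • (e' + e) + hermForm n F 2 y e' • e + y
        = (y + y) + (hermForm n F 2 y e • (e' + e) + hermForm n F 2 y e' • e) := by abel
      _ = _ := by rw [h4, zero_add]

/-- the main computation -/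
theorem Good.dich (hF : Fintype.card F = 2 ^ 2) (hB : Good B) (hw : MaxI B w) (hx : x ∈ B)
    (hxw : x * w = w * x) (hfix : ∀ u, act w u = u → act x u = u) (hx1 : x ≠ 1)
    (hxw1 : x ≠ w) {a : Fin n → F} (ha : act w a ≠ a) (haN : hermForm n F 2 a (Nw w a) = 0) :
    hermForm n F 2 a (Nw x a) = 1 ∧ ∀ y, Nw w y = hermForm n F 2 y (Nw w a) • (Nw x a + Nw w a) +
      hermForm n F 2 y (Nw x a) • Nw w a := by
  obtain ⟨y, hy⟩ : ∃ y, hermForm n F 2 (Nw w y) a ≠ 0 := by
    by_contra hcon
    push Not at hcon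
    exact ha (fix_of_orth hF hw.sq hcon)
  have hr := Rd_Nw hF hw.sq y
  obtain ⟨t, ht⟩ := exists_iso_correct hF hr.self hy
  have hr' := hr.smul t
  have h1 : Nw w (a + t • Nw w y) = Nw w a := by
    rw [Nw_add, (Nw_eq_zero hF).2 hr'.1, add_zero]
  have h2 : Nw x (a + t • Nw w y) = Nw x a := by
    rw [Nw_add, (Nw_eq_zero hF).2 (hfix _ hr'.1), add_zero]
  have h3 := hB.dich_iso hF hw hx hxw hfix hx1 hxw1 (a := a + t • Nw w y)
    (fun h => ha ((Nw_eq_zero hF).1 (by rw [← h1]; exact (Nw_eq_zero hF).2 h))) ht (by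
      rw [h1, herm_add_left, haN, (Rd_Nw hF hw.sq a).left hr'.1, add_zero])
  rw [h1, h2, herm_add_left, (Rd_Nx hF hw.sq hxw hfix a).left hr'.1, add_zero] at h3
  exact h3

/-- **The 2-elements of `C_B(w)` are `1` and `w`.** -/
theorem Good.eq_one_or (hF : Fintype.card F = 2 ^ 2) (hn : 5 ≤ n) (hB : Good B) (hw : MaxI B w) (hx : x ∈ B)
    {k : ℕ} (hx2 : x ^ 2 ^ k = 1) (hxw : x * w = w * x) : x = 1 ∨ x = w := by
  by_contra hcon
  push Not at hcon
  obtain ⟨hx1, hxw1⟩ := hcon
  have hfix : ∀ u, act w u = u → act x u = u := fun u hu => hB.fix hF hn hw hx hx2 hxw hu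
  obtain ⟨a, ha, haN⟩ := exists_iso_vec hF hw.sq hw.ne (hB.non w hw.mem)
  obtain ⟨hδ, hform⟩ := hB.dich hF hw hx hxw hfix hx1 hxw1 ha haN
  have hxx := sq_x hF hw.sq hxw hfix
  have he : Rd w (Nw w a) := Rd_Nw hF hw.sq a
  have hNa : Nw w a ≠ 0 := fun h => ha ((Nw_eq_zero hF).1 h)
  -- the vector `b`
  obtain ⟨b₀, hb₀⟩ : ∃ z, hermForm n F 2 z (Nw w a) = 1 := by
    obtain ⟨y, hy⟩ := exists_herm_ne_zero hF hNa
    have h1 : hermForm n F 2 y (Nw w a) ≠ 0 := fun h => hy (herm_eq_zero_swap hF h)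
    exact ⟨(hermForm n F 2 y (Nw w a))⁻¹ • y, by rw [herm_smul_left, inv_mul_cancel₀ h1]⟩
  obtain ⟨t, ht⟩ := exists_trace_eq hF (c := hermForm n F 2 b₀ (Nw w b₀)) (by
    rw [← herm_swap hF, herm_Nw hF hw.sq])
  have hab₀ : hermForm n F 2 a (Nw w b₀) = 1 := by
    rw [← herm_Nw hF hw.sq, herm_swap hF, hb₀, one_pow]
  obtain ⟨b, hbe, hbN⟩ : ∃ b, hermForm n F 2 b (Nw w a) = 1 ∧ hermForm n F 2 b (Nw w b) = 0 := by
    refine ⟨b₀ + t • a, ?_, ?_⟩
    · rw [herm_add_left, herm_smul_left, haN, mul_zero, add_zero, hb₀]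
    · rw [Nw_add, Nw_smul, herm_add_left, herm_add_right hF, herm_add_right hF, herm_smul_left, herm_smul_left,
        herm_smul_right, herm_smul_right, haN, hb₀, hab₀, ← ht]
      linear_combination (t + t ^ 2) * add_self hF (1 : F)
  have hb : act w b ≠ b := by
    intro h
    rw [he.left h] at hbe
    exact zero_ne_one hbe
  obtain ⟨hδb, -⟩ := hB.dich hF hw hx hxw hfix hx1 hxw1 hb hbN
  -- `γ`
  set γ := hermForm n F 2 b (Nw x a) with hγdef
  have hγ : γ + 1 + γ ^ 2 = 0 := by
    have h1 := hform b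
    rw [hbe, one_smul, ← hγdef] at h1
    rw [h1, herm_add_right hF, herm_add_right hF, herm_smul_right, hbe, ← hγdef, mul_one] at hbN
    exact hbN
  have hγ0 : γ ≠ 0 := by
    intro h
    rw [h] at hγ
    norm_num at hγ
  have hγ3 := pow_three hF hγ0
  have hab : hermForm n F 2 a (Nw x b) = γ ^ 2 := by
    rw [← herm_Nw hF hxx, herm_swap hF]
  -- the vector `v`
  have hv : Nw x (b + γ • a) = 0 := by
    apply herm_nondeg hF
    intro y
    apply herm_eq_zero_swap hF
    set p := hermForm n F 2 y (Nw w a) with hp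
    set q := hermForm n F 2 y (Nw x a) with hq
    have h1 : hermForm n F 2 (y + p • b + (q + γ * p) • a) (Nw w a) = 0 := by
      rw [herm_add_left, herm_add_left, herm_smul_left, herm_smul_left, ← hp, hbe, haN]
      linear_combination p * add_self hF (1 : F)
    have h2 : hermForm n F 2 (y + p • b + (q + γ * p) • a) (Nw x a) = 0 := by
      rw [herm_add_left, herm_add_left, herm_smul_left, herm_smul_left, ← hq, ← hγdef, hδ]
      linear_combination (q + p * γ) * add_self hF (1 : F)
    have h3 : Nw w (y + p • b + (q + γ * p) • a) = 0 := by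
      rw [hform, h1, h2, zero_smul, zero_smul, add_zero]
    have h4 := (Rd_Nx hF hw.sq hxw hfix (b + γ • a)).left ((Nw_eq_zero hF).1 h3)
    rw [herm_add_left, herm_add_left, herm_smul_left, herm_smul_left] at h4
    have h5 : hermForm n F 2 b (Nw x (b + γ • a)) = 0 := by
      rw [Nw_add, Nw_smul, herm_add_right hF, herm_smul_right, hδb, ← hγdef]
      linear_combination hγ3 + add_self hF (1 : F)
    have h6 : hermForm n F 2 a (Nw x (b + γ • a)) = 0 := by
      rw [Nw_add, Nw_smul, herm_add_right hF, herm_smul_right, hab, hδ]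
      linear_combination γ ^ 2 * add_self hF (1 : F)
    rwa [h5, h6, mul_zero, mul_zero, add_zero, add_zero] at h4
  have h1 := fix_x hF hw hx hxw hfix hx1 ((Nw_eq_zero hF).1 hv)
  have h2 := he.left h1
  rw [herm_add_left, herm_smul_left, haN, mul_zero, add_zero, hbe] at h2
  exact one_ne_zero h2

end Half

end Cfsg.Agent.OddHalf.D4.Un2

end

-- merged: Cfsg.Agent.OddHalf.D4.Un2.Bad
section

/-!
# ODD, D4, row `U_n(2)`: `BadB` is impossible in `PSU_n(2)`, `n ≥ 5`
-/

set_option autoImplicit false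

namespace Cfsg.Agent.OddHalf.D4.Un2

open Cfsg Cfsg.Agent.LieClassical.HermBasic Cfsg.Agent.LieClassical.HermSiegel
  Cfsg.Agent.LieClassical.HermGen Cfsg.Agent.ClassicalGeometry.PSUAutBasic
  Cfsg.Agent.ClassicalGeometry.PSUAutSylow Matrix Cfsg.Agent.OddHalf.D4.Spor

section Two

variable {G : Type*} [Group G]

/-- a finite group with an involution `w` such that the 2-elements of `C(w)` are `1` and `w` -/
theorem not_four_dvd [Finite G] {w : G} (hw : w * w = 1) (hw1 : w ≠ 1)
    (h : ∀ x : G, (∃ k : ℕ, x ^ 2 ^ k = 1) → x * w = w * x → x = 1 ∨ x = w) : ¬ 4 ∣ Nat.card G := by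
  intro h4
  have : Fact (Nat.Prime 2) := ⟨Nat.prime_two⟩
  have hwp : IsPGroup 2 ↥(Subgroup.zpowers w) := by
    have h1 : orderOf w = 2 := orderOf_eq_prime (by rw [pow_two, hw]) hw1
    rw [IsPGroup.iff_card]
    exact ⟨1, by rw [Nat.card_zpowers, h1, pow_one]⟩
  obtain ⟨P, hP⟩ := hwp.exists_le_sylow
  have hwP : w ∈ (P : Subgroup G) := hP (Subgroup.mem_zpowers w)
  have hpow : ∀ x ∈ (P : Subgroup G), ∃ k : ℕ, x ^ 2 ^ k = 1 := by
    intro x hx
    obtain ⟨k, hk⟩ := P.isPGroup' ⟨x, hx⟩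
    exact ⟨k, congrArg Subtype.val hk⟩
  have hcard : 4 ∣ Nat.card ↥(P : Subgroup G) := by
    have h1 := P.card_eq_multiplicity
    rw [h1]
    have h2 : 2 ≤ (Nat.card G).factorization 2 := by
      rw [← Nat.Prime.pow_dvd_iff_le_factorization Nat.prime_two Nat.card_pos.ne']
      exact h4
    exact (pow_dvd_pow 2 h2)
  have : Nontrivial ↥(P : Subgroup G) := by
    rw [← Finite.one_lt_card_iff_nontrivial]
    exact lt_of_lt_of_le (by norm_num) (Nat.le_of_dvd Nat.card_pos hcard)
  have := P.isPGroup'.center_nontrivial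
  obtain ⟨⟨z, hz⟩, hz1⟩ := exists_ne (1 : ↥(Subgroup.center ↥(P : Subgroup G)))
  have hzc : ∀ x ∈ (P : Subgroup G), x * (z : G) = z * x := fun x hx =>
    congrArg Subtype.val (Subgroup.mem_center_iff.1 hz ⟨x, hx⟩)
  have hzw : (z : G) = w := by
    rcases h z (hpow z z.2) (hzc w hwP).symm with h1 | h1
    · exact absurd (Subtype.ext (Subtype.ext h1)) hz1
    · exact h1
  have hsub : ∀ x ∈ (P : Subgroup G), x = 1 ∨ x = w := fun x hx =>
    h x (hpow x hx) (by rw [← hzw]; exact hzc x hx)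
  have h2 : Nat.card ↥(P : Subgroup G) ≤ 2 := by
    have h3 : ((P : Subgroup G) : Set G) ⊆ {1, w} := by
      intro x hx
      rcases hsub x hx with h4 | h4
      · exact Or.inl h4
      · exact Or.inr h4
    calc Nat.card ↥(P : Subgroup G) = ((P : Subgroup G) : Set G).ncard := rfl
      _ ≤ ({1, w} : Set G).ncard := Set.ncard_le_ncard h3 (Set.toFinite _)
      _ ≤ 2 := (Set.ncard_pair (Ne.symm hw1)).le
  have h5 := Nat.le_of_dvd Nat.card_pos hcard
  omega

end Two

variable {F : Type*} [Field F] [Fintype F] {n : ℕ}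

/-- 2-elements of `PSU` lift to 2-elements -/
theorem lift_two (hF : Fintype.card F = 2 ^ 2) (hn : 3 ≤ n) {x : PSU n F 2} {k : ℕ} (hx : x ^ 2 ^ k = 1) :
    ∃ a : SU n F 2, pr n F 2 a = x ∧ ∃ l : ℕ, a ^ 2 ^ l = 1 := by
  have := charP_two hF
  have : Fact (Nat.Prime 2) := ⟨Nat.prime_two⟩
  exact exists_lift hF hn hx

theorem eq_of_pr (hF : Fintype.card F = 2 ^ 2) (hn : 3 ≤ n) {a b : SU n F 2} {k l : ℕ} (ha : a ^ 2 ^ k = 1)
    (hb : b ^ 2 ^ l = 1) (h : pr n F 2 a = pr n F 2 b) : a = b := by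
  have := charP_two hF
  have : Fact (Nat.Prime 2) := ⟨Nat.prime_two⟩
  exact eq_of_pr_eq hF hn ha hb h

theorem pow_conj {G : Type*} [Group G] (g a : G) {m : ℕ} (h : a ^ m = 1) : (g * a * g⁻¹) ^ m = 1 := by
  rw [conj_pow, h, mul_one, mul_inv_cancel]

/-- lifts of commuting elements commute -/
theorem comm_of_pr (hF : Fintype.card F = 2 ^ 2) (hn : 3 ≤ n) {g a : SU n F 2} {k : ℕ} (ha : a ^ 2 ^ k = 1)
    (h : pr n F 2 g * pr n F 2 a = pr n F 2 a * pr n F 2 g) : g * a = a * g := by
  have h1 : g * a * g⁻¹ = a := by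
    apply eq_of_pr hF hn (pow_conj g a ha) ha
    rw [map_mul, map_mul, map_inv, h, mul_inv_cancel_right]
  calc g * a = (g * a * g⁻¹) * g := by group
    _ = a * g := by rw [h1]

/-- lift of an involution -/
theorem lift_inv (hF : Fintype.card F = 2 ^ 2) (hn : 3 ≤ n) {x : PSU n F 2} (hx : x * x = 1) (hx1 : x ≠ 1) :
    ∃ a : SU n F 2, pr n F 2 a = x ∧ a * a = 1 ∧ a ≠ 1 := by
  obtain ⟨a, ha, l, hl⟩ := lift_two hF hn (x := x) (k := 1) (by rw [pow_one, pow_two, hx])
  refine ⟨a, ha, ?_, ?_⟩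
  · apply eq_of_pr hF hn (k := l) (l := 0)
    · rw [← pow_two, ← pow_mul, mul_comm, pow_mul, hl, one_pow]
    · exact one_pow _
    · rw [map_mul, ha, hx, map_one]
  · rintro rfl
    rw [map_one] at ha
    exact hx1 ha.symm

/-- involutions have nontrivial images -/
theorem pr_ne_one (hF : Fintype.card F = 2 ^ 2) (hn : 3 ≤ n) {a : SU n F 2} (ha : a * a = 1) (ha1 : a ≠ 1) :
    pr n F 2 a ≠ 1 := by
  intro h
  apply ha1
  apply eq_of_pr hF hn (k := 1) (l := 0) (by rw [pow_one, pow_two, ha]) (one_pow _)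
  rw [h, map_one]

/-- transvections are 2-central -/
theorem cen_tv (hF : Fintype.card F = 2 ^ 2) (hn : 3 ≤ n) {g : SU n F 2} {v : Fin n → F} (hv0 : v ≠ 0)
    (hv : hermForm n F 2 v v = 0) (hg : ∀ y, act g y = y + hermForm n F 2 y v • v) : Cen (pr n F 2 g) := by
  have := charP_two hF
  have : Fact (Nat.Prime 2) := ⟨Nat.prime_two⟩
  obtain ⟨S⟩ : Nonempty (Sylow 2 (SU n F 2)) := inferInstance
  obtain ⟨u₁, hu₁0, hu₁, hfix₁⟩ := exists_fixed 2 hF (by omega) S.isPGroup'
  obtain ⟨g₀, -, hg₀⟩ := exists_map_iso hF hn le_rfl (mem_coordSub_top u₁) (mem_coordSub_top v)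
    hu₁0 hv0 hu₁ hv
  refine ⟨(g₀ • S).mapSurjective pr_surjective, ?_⟩
  intro s hs
  have hs' : s ∈ (((g₀ • S).mapSurjective (pr_surjective (n := n) (F := F) (q := 2)) : Sylow 2 (PSU n F 2)) :
    Subgroup (PSU n F 2)) := hs
  obtain ⟨x, hx, rfl⟩ := hs'
  have hx' : x ∈ ((g₀ • S : Sylow 2 (SU n F 2)) : Subgroup (SU n F 2)) := hx
  rw [Sylow.coe_subgroup_smul] at hx'
  obtain ⟨s, hsS, rfl⟩ := hx'
  have h1 : act g₀⁻¹ v = u₁ := ((act_eq_iff g₀).1 hg₀).symm
  have h2 : act (g₀ * s * g₀⁻¹) v = v := by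
    rw [act_mul, act_mul, h1, hfix₁ s hsS, hg₀]
  have h3 : (g₀ * s * g₀⁻¹) * g * (g₀ * s * g₀⁻¹)⁻¹ = g := by
    apply ext_act
    intro y
    rw [conj_tv hg, h2, hg]
  show pr n F 2 (g₀ * s * g₀⁻¹) * pr n F 2 g = pr n F 2 g * pr n F 2 (g₀ * s * g₀⁻¹)
  rw [← map_mul, ← map_mul]
  congr 1
  calc g₀ * s * g₀⁻¹ * g = ((g₀ * s * g₀⁻¹) * g * (g₀ * s * g₀⁻¹)⁻¹) * (g₀ * s * g₀⁻¹) := by group
    _ = g * (g₀ * s * g₀⁻¹) := by rw [h3]

/-- **TAB for `U_n(2)`, `n ≥ 5`.** -/
theorem not_badB (hF : Fintype.card F = 2 ^ 2) (hn : 5 ≤ n) (B D : Subgroup (PSU n F 2)) : ¬ BadB B D := by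
  intro h
  have hn3 : 3 ≤ n := by omega
  have : Finite (PSU n F 2) := inferInstance
  have hGood : Good (B.comap (pr n F 2)) := by
    constructor
    · intro w hw hw2 hw1 c hc b hb
      have h1 : pr n F 2 c ∈ D := by
        apply h.cent (pr n F 2 w) hw (by rw [← map_mul, hw2, map_one]) (pr_ne_one hF hn3 hw2 hw1)
        rw [← map_mul, hc, map_mul]
      have h2 := h.norm _ h1 _ hb
      rw [Subgroup.mem_comap, map_mul, map_mul, map_inv]
      exact h2
    · intro g hg v hv0 hv hact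
      have hg2 : g * g = 1 := by
        apply ext_act
        intro y
        rw [act_mul, act_one, hact (act g y), hact y, herm_add_left, herm_smul_left, hv, mul_zero, add_zero,
          add_assoc, vadd_self hF, add_zero]
      have hg1 : g ≠ 1 := by
        rintro rfl
        obtain ⟨y, hy⟩ := exists_herm_ne_zero hF hv0
        have h1 := hact y
        rw [act_one] at h1
        have h2 := left_eq_add.1 h1
        rcases smul_eq_zero.1 h2 with h3 | h3
        · exact hy (herm_eq_zero_swap hF h3)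
        · exact hv0 h3
      exact h.non (pr n F 2 g) hg (by rw [← map_mul, hg2, map_one]) (pr_ne_one hF hn3 hg2 hg1)
        (cen_tv hF hn3 hv0 hv hact)
  have hlift : ∀ x : PSU n F 2, x ∈ B → ∀ a, pr n F 2 a = x → a ∈ B.comap (pr n F 2) := by
    rintro _ hx a rfl
    exact hx
  obtain ⟨w, hw⟩ : ∃ w, MaxI (B.comap (pr n F 2)) w := by
    apply exists_maxI
    have h2 : 2 ∣ Nat.card ↥B := (by norm_num : 2 ∣ 4).trans h.four
    have : Fact (Nat.Prime 2) := ⟨Nat.prime_two⟩
    obtain ⟨b, hb⟩ := exists_prime_orderOf_dvd_card' 2 h2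
    have hb2 : (b : PSU n F 2) * b = 1 := by
      have h3 := pow_orderOf_eq_one b
      rw [hb, pow_two] at h3
      exact congrArg Subtype.val h3
    have hb1 : (b : PSU n F 2) ≠ 1 := by
      intro h3
      have h4 : b = 1 := Subtype.ext h3
      rw [h4, orderOf_one] at hb
      norm_num at hb
    obtain ⟨a, ha, ha2, ha1⟩ := lift_inv hF hn3 hb2 hb1
    exact ⟨a, hlift _ b.2 a ha, ha2, ha1⟩
  apply not_four_dvd (G := ↥B) (w := ⟨pr n F 2 w, hw.mem⟩) (Subtype.ext (by
      show pr n F 2 w * pr n F 2 w = 1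
      rw [← map_mul, hw.sq, map_one])) (fun h1 => pr_ne_one hF hn3 hw.sq hw.ne (congrArg Subtype.val h1)) ?_ h.four
  rintro ⟨x, hx⟩ ⟨k, hk⟩ hxw
  obtain ⟨a, rfl, l, hl⟩ := lift_two hF hn3 (congrArg Subtype.val hk)
  have hwp : w ^ 2 ^ 1 = 1 := by rw [pow_one, pow_two, hw.sq]
  have h1 := comm_of_pr hF hn3 hwp (congrArg Subtype.val hxw)
  rcases hGood.eq_one_or hF hn hw hx hl h1 with h2 | h2
  · left
    apply Subtype.ext
    show pr n F 2 a = 1
    rw [h2, map_one]
  · right
    apply Subtype.ext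
    show pr n F 2 a = pr n F 2 w
    rw [h2]

end Cfsg.Agent.OddHalf.D4.Un2

end

-- merged: Cfsg.Agent.OddHalf.D4.Un2.Bal
section

/-!
# ODD, D4, row `U_n(2)`: `O(C(a)) = 1` for the involutions `a` of `PSU_n(2)`; the centre of a Sylow 2-subgroup
-/

set_option autoImplicit false

namespace Cfsg.Agent.OddHalf.D4.Un2

open Cfsg Cfsg.Agent.LieClassical.HermBasic Cfsg.Agent.LieClassical.HermSiegel
  Cfsg.Agent.LieClassical.HermGen Cfsg.Agent.ClassicalGeometry.PSUAutBasic
  Cfsg.Agent.ClassicalGeometry.PSUAutSylow Matrix Cfsg.Agent.OddHalf.D4.Spor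

variable {F : Type*} [Field F] [Fintype F] {n : ℕ}

/-- unipotent maps along `Rd w ≤ fixed space of w` have order dividing 4 -/
theorem unip_four (hF : Fintype.card F = 2 ^ 2) {w : SU n F 2} (hw : w * w = 1)
    {T : (Fin n → F) → (Fin n → F)} (hadd : ∀ x y, T (x + y) = T x + T y)
    (hiso : ∀ x y, hermForm n F 2 (T x) (T y) = hermForm n F 2 x y) (hr : ∀ r, Rd w r → T r = r)
    (hu : ∀ u, act w u = u → Rd w (T u + u)) (y : Fin n → F) : T (T (T (T y))) = y := by
  have hV : ∀ y, act w (T y + y) = T y + y := by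
    intro y
    apply fix_of_orth hF hw
    intro z
    have h1 := hiso (Nw w z) y
    rw [hr _ (Rd_Nw hF hw z)] at h1
    rw [herm_add_right hF, h1, add_self hF]
  obtain ⟨N, hN⟩ : ∃ N : (Fin n → F) → (Fin n → F), ∀ y, N y = T y + y := ⟨_, fun _ => rfl⟩
  have hT : ∀ y, T y = y + N y := by
    intro y
    rw [hN, add_comm (T y) y, ← add_assoc, vadd_self hF, zero_add]
  have hNadd : ∀ x y, N (x + y) = N x + N y := by
    intro x y
    simp only [hN, hadd]
    abel
  have hN0 : ∀ r, Rd w r → N r = 0 := by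
    intro r h
    rw [hN, hr r h, vadd_self hF]
  have hNN : ∀ y, Rd w (N (N y)) := fun y => by
    rw [hN (N y)]
    exact hu _ (by rw [hN]; exact hV y)
  have hTT : ∀ y, T (T y) = y + N (N y) := by
    intro y
    rw [hT y, hadd, hT y, hT (N y)]
    have h3 := vadd_self hF (N y)
    calc y + N y + (N y + N (N y)) = y + (N y + N y) + N (N y) := by abel
      _ = _ := by rw [h3, add_zero]
  rw [hTT, hTT, hNadd, hN0 _ (hNN y), add_zero, add_assoc, vadd_self hF, add_zero]

theorem exists_smul_of_sum' (hF : Fintype.card F = 2 ^ 2) {v v' : Fin n → F}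
    (h : ∀ y, hermForm n F 2 y v • v + hermForm n F 2 y v' • v' = 0) : ∃ c : F, v' = c • v := by
  by_cases h0 : v' = 0
  · exact ⟨0, by rw [h0, zero_smul]⟩
  · exact exists_smul_of_sum hF h0 h

/-- a linear map with all vectors of `Rd w` as eigenvectors is a scalar on it -/
theorem exists_scalar (hF : Fintype.card F = 2 ^ 2) {w x : SU n F 2}
    (h : ∀ r, Rd w r → ∃ c : F, act x r = c • r) : ∃ c : F, c ≠ 0 ∧ ∀ r, Rd w r → act x r = c • r := by
  by_cases h0 : ∃ r₀, Rd w r₀ ∧ r₀ ≠ 0
  · obtain ⟨r₀, hr₀, h0⟩ := h0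
    obtain ⟨l, hl⟩ := h r₀ hr₀
    refine ⟨l, ?_, ?_⟩
    · rintro rfl
      rw [zero_smul] at hl
      exact h0 ((act_eq_zero x).1 hl)
    · intro r hr
      obtain ⟨μ, hμ⟩ := h r hr
      obtain ⟨ν, hν⟩ := h (r + r₀) (hr.add hF hr₀)
      rw [act_add, hμ, hl, smul_add] at hν
      by_cases hμν : μ = ν
      · subst hμν
        have h1 : l • r₀ = μ • r₀ := add_left_cancel hν
        have h2 : l = μ := by
          by_contra hne
          have h3 : (l - μ) • r₀ = 0 := by rw [sub_smul, h1, sub_self]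
          rcases smul_eq_zero.1 h3 with h4 | h4
          · exact hne (sub_eq_zero.1 h4)
          · exact h0 h4
        rw [hμ, h2]
      · have hne : μ - ν ≠ 0 := sub_ne_zero.2 hμν
        have h1 : r = ((μ - ν)⁻¹ * (ν - l)) • r₀ := by
          have h2 : (μ - ν) • r = (ν - l) • r₀ := by
            rw [sub_smul, sub_smul, sub_eq_sub_iff_add_eq_add, hν]
            abel
          rw [mul_smul, ← h2, smul_smul, inv_mul_cancel₀ hne, one_smul]
        rw [h1, act_smul, hl, smul_smul, smul_smul, mul_comm]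
  · push Not at h0
    refine ⟨1, one_ne_zero, fun r hr => ?_⟩
    rw [h0 r hr, act_zero, smul_zero]

/-- **`O(C(a)) = 1`** -/
theorem bal (hF : Fintype.card F = 2 ^ 2) (hn : 3 ≤ n) (a : PSU n F 2) (ha : a * a = 1) (ha1 : a ≠ 1)
    (I : Subgroup (PSU n F 2)) (hIa : ∀ i ∈ I, i * a = a * i)
    (hIn : ∀ c, c * a = a * c → ∀ i ∈ I, c * i * c⁻¹ ∈ I) (hodd : Odd (Nat.card ↥I)) : I = ⊥ := by
  obtain ⟨w, rfl, hw, -⟩ := lift_inv hF hn ha ha1
  rw [Subgroup.eq_bot_iff_forall]
  intro i hi
  have hpow : ∀ j ∈ I, ∀ m : ℕ, j ^ 2 ^ m = 1 → j = 1 := by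
    intro j hj m hm
    have h1 : orderOf j ∣ 2 ^ m := orderOf_dvd_of_pow_eq_one hm
    have h2 : orderOf j ∣ Nat.card ↥I := by
      have h3 := orderOf_dvd_natCard (⟨j, hj⟩ : ↥I)
      rwa [Subgroup.orderOf_mk] at h3
    have h3 : Nat.Coprime (2 ^ m) (Nat.card ↥I) := Nat.Coprime.pow_left m (Nat.coprime_two_left.2 hodd)
    have h4 := Nat.eq_one_of_dvd_coprimes h3 h1 h2
    exact orderOf_eq_one_iff.1 h4
  obtain ⟨x, rfl⟩ := pr_surjective i
  have hwp : w ^ 2 ^ 1 = 1 := by rw [pow_one, pow_two, hw]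
  have hxw : x * w = w * x := comm_of_pr hF hn hwp (hIa _ hi)
  -- commutators
  have hcomm : ∀ c : SU n F 2, c * w = w * c → (x * c * x⁻¹ * c⁻¹) ^ 2 ^ 2 = 1 → x * c * x⁻¹ * c⁻¹ = 1 := by
    intro c hc h4
    have h1 : pr n F 2 (x * c * x⁻¹ * c⁻¹) ∈ I := by
      have h2 := hIn (pr n F 2 c) (by rw [← map_mul, hc, map_mul]) _ (I.inv_mem hi)
      have h3 := I.mul_mem hi h2
      have e : pr n F 2 (x * c * x⁻¹ * c⁻¹) = pr n F 2 x * (pr n F 2 c * (pr n F 2 x)⁻¹ * (pr n F 2 c)⁻¹) := by
        rw [map_mul, map_mul, map_mul, map_inv, map_inv]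
        group
      rw [e]; exact h3
    have h2 := hpow _ h1 2 (by rw [← map_pow, h4, map_one])
    exact eq_of_pr hF hn h4 (l := 0) (one_pow _) (by rw [h2, map_one])
  -- transvections
  have hsc : ∀ r, Rd w r → ∃ c : F, act x r = c • r := by
    intro r hr
    obtain ⟨t, ht⟩ := exists_tv hF hr.self
    have htw := tv_comm hw ht hr.1
    have hrr := hr.self
    have hrx : hermForm n F 2 r (act x r) = 0 := (hr.map hxw).left hr.1
    have htt : ∀ y, act t (act t y) = y := by
      intro y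
      rw [ht (act t y), ht y, herm_add_left, herm_smul_left, hrr, mul_zero, add_zero, add_assoc,
        vadd_self hF, add_zero]
    have hform : ∀ y, act (x * t * x⁻¹ * t⁻¹) y = y + hermForm n F 2 y r • r +
        hermForm n F 2 y (act x r) • act x r := by
      intro y
      have h1 : act t⁻¹ y = act t y := by
        rw [← htt y, act_inv_act, htt]
      rw [act_mul, h1, conj_tv ht, ht, herm_add_left, herm_smul_left, hrx, mul_zero, add_zero]
    have h4 : (x * t * x⁻¹ * t⁻¹) ^ 2 ^ 2 = 1 := by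
      apply ext_act
      intro y
      have h5 := unip_four hF hw (T := act (x * t * x⁻¹ * t⁻¹)) (act_add _) (herm_act _) (by
        intro r' hr'
        rw [hform, hr.left hr'.1, (hr.map hxw).left hr'.1, zero_smul, zero_smul, add_zero, add_zero]) (by
        intro u hu
        rw [hform, hr.left hu, (hr.map hxw).left hu, zero_smul, zero_smul, add_zero, add_zero, vadd_self hF]
        exact ⟨act_zero w, fun u _ => herm_zero_right hF u⟩) y
      rw [show (2 : ℕ) ^ 2 = 4 by norm_num, act_one]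
      simp only [pow_succ, pow_zero, one_mul, act_mul] at h5 ⊢
      exact h5
    have h6 := hcomm t htw h4
    apply exists_smul_of_sum' hF
    intro y
    have h7 := hform y
    rw [h6, act_one, add_assoc] at h7
    exact left_eq_add.1 h7
  obtain ⟨l, hl0, hl⟩ := exists_scalar hF hsc
  have hl3 := pow_three hF hl0
  -- Siegel elements
  have hsg : ∀ u, act w u = u → Rd w (l ^ 2 • act x u + u) := by
    intro u hu
    have hfu : act w (l ^ 2 • act x u + u) = l ^ 2 • act x u + u := by
      rw [act_add, act_smul, fix_act hxw hu, hu]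
    refine ⟨hfu, fun y hy => ?_⟩
    by_cases h0 : ∃ r, Rd w r ∧ r ≠ 0
    · obtain ⟨r, hr, h0⟩ := h0
      obtain ⟨μ, hμ⟩ := exists_siegel hF hr.self (hr.left hu)
      have hcw : siegel hF r u μ hμ * w = w * siegel hF r u μ hμ := siegel_comm hF hμ hr.1 hu
      set ψ := siegel hF r u μ hμ with hψ
      have h1 : ∀ z, act w z = z → act ψ z = z + hermForm n F 2 z u • r := by
        intro z hz
        rw [hψ, act_siegel, hr.left hz, mul_zero, zero_smul, zero_sub, neg_self hF, add_zero]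
      have h2 : ∀ z, act w z = z → act (x * ψ * x⁻¹) z = z + hermForm n F 2 z (act x u) • act x r := by
        intro z hz
        rw [hψ, conj_siegel hF hμ x, act_siegel, (hr.map hxw).left hz, mul_zero, zero_smul, zero_sub, neg_self hF,
          add_zero]
      have h3 : ∀ z, Rd w z → act ψ z = z := by
        intro z hz
        rw [h1 z hz.1, hz.right hF hu, zero_smul, add_zero]
      have h4 : ∀ z, Rd w z → act (x * ψ * x⁻¹ * ψ⁻¹) z = z := by
        intro z hz
        have h5 : act ψ⁻¹ z = z := by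
          conv_lhs => rw [← h3 z hz]
          rw [act_inv_act]
        rw [act_mul, h5, h2 z hz.1, hz.right hF (fix_act hxw hu), zero_smul, add_zero]
      have h6 : ∀ y, act w y = y → act (x * ψ * x⁻¹ * ψ⁻¹) (act ψ y) = act ψ y +
          (hermForm n F 2 y u • r + hermForm n F 2 y (act x u) • act x r) := by
        intro y hy
        rw [act_mul, act_inv_act, h2 y hy, h1 y hy]
        have h7 := vadd_self hF (hermForm n F 2 y u • r)
        calc y + hermForm n F 2 y (act x u) • act x r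
            = y + (hermForm n F 2 y u • r + hermForm n F 2 y u • r) + hermForm n F 2 y (act x u) • act x r := by
              rw [h7, add_zero]
          _ = _ := by abel
      have h7 : (x * ψ * x⁻¹ * ψ⁻¹) ^ 2 ^ 2 = 1 := by
        apply ext_act
        intro y
        have h5 := unip_four hF hw (T := act (x * ψ * x⁻¹ * ψ⁻¹)) (act_add _) (herm_act _) h4 (by
          intro v hv
          obtain ⟨z, rfl⟩ : ∃ z, v = act ψ z := ⟨_, (act_act_inv _ v).symm⟩
          have hz : act w z = z := (fix_act_iff hcw).1 hv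
          rw [h6 z hz, add_comm (act ψ z), add_assoc, vadd_self hF, add_zero]
          exact (hr.smul _).add hF ((hr.map hxw).smul _)) y
        rw [show (2 : ℕ) ^ 2 = 4 by norm_num, act_one]
        simp only [pow_succ, pow_zero, one_mul, act_mul] at h5 ⊢
        exact h5
      have h8 := hcomm ψ hcw h7
      have h9 := h6 y hy
      rw [h8, act_one] at h9
      have h10 := left_eq_add.1 h9
      rw [hl r hr, smul_smul, ← add_smul, smul_eq_zero] at h10
      have h11 := h10.resolve_right h0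
      rw [herm_add_right hF, herm_smul_right]
      linear_combination h11 + l * hermForm n F 2 y (act x u) * hl3
    · push Not at h0
      have h1 : ∀ z, act w z = z := by
        intro z
        rw [← Nw_eq_zero hF]
        exact h0 _ (Rd_Nw hF hw z)
      exfalso
      apply ha1
      have h2 : w = 1 := ext_act fun z => by rw [h1, act_one]
      rw [h2, map_one]
  -- the fourth power is a scalar
  have h4 : ∀ y, act (x ^ 4) y = l • y := by
    intro y
    have h5 := unip_four hF hw (T := fun y => l ^ 2 • act x y) (fun x' y => by rw [act_add, smul_add])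
      (fun x' y => by
        rw [herm_smul_left, herm_smul_right, herm_act]
        linear_combination (l ^ 3 + 1) * hermForm n F 2 x' y * hl3)
      (fun r hr => by
        rw [hl r hr, smul_smul]
        have : l ^ 2 * l = 1 := by linear_combination hl3
        rw [this, one_smul]) hsg y
    simp only [act_smul, smul_smul] at h5
    have h6 : act (x ^ 4) y = act x (act x (act x (act x y))) := by
      simp only [pow_succ, pow_zero, one_mul, act_mul]
    rw [h6]
    have h7 : l • y = (l * (l ^ 2 * (l ^ 2 * (l ^ 2 * l ^ 2)))) • act x (act x (act x (act x y))) := by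
      rw [mul_smul, h5]
    have h8 : l * (l ^ 2 * (l ^ 2 * (l ^ 2 * l ^ 2))) = 1 := by
      linear_combination (l ^ 6 + l ^ 3 + 1) * hl3
    rw [h8, one_smul] at h7
    exact h7.symm
  apply hpow _ hi 2
  rw [← map_pow, show (2 : ℕ) ^ 2 = 4 by norm_num]
  exact pr_eq_one_iff.2 (mem_center_of_act h4)

theorem mem_center_sylow (hF : Fintype.card F = 2 ^ 2) (hn : 3 ≤ n) (S : Sylow 2 (PSU n F 2)) :
    ∃ (u : Fin n → F) (_ : u ≠ 0) (hu : hermForm n F 2 u u = 0) (h : (1 : F) + 1 ^ 2 = 0),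
      ∀ a ∈ S, a ≠ 1 → (∀ s ∈ S, s * a = a * s) → a = pr n F 2 (transv hF u hu 1 h) := by
  have := charP_two hF
  have : Fact (Nat.Prime 2) := ⟨Nat.prime_two⟩
  obtain ⟨T, hT⟩ := exists_sylow_lift 2 S
  obtain ⟨u, hu0, hu, hfix⟩ := exists_fixed 2 hF (by omega) T.isPGroup'
  have h1 := cent_sylow 2 hF hn T hu0 hu hfix
  have h : (1 : F) + 1 ^ 2 = 0 := by rw [one_pow, add_self hF]
  refine ⟨u, hu0, hu, h, ?_⟩
  intro a ha ha1 hc
  rw [hT] at h1
  have h2 : a ∈ cent (S : Subgroup (PSU n F 2)) :=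
    ⟨ha, Subgroup.mem_centralizer_iff.2 fun s hs => hc s hs⟩
  rw [h1] at h2
  obtain ⟨_, ⟨μ, hμ, rfl⟩, rfl⟩ := h2
  have h3 : μ ^ 2 = μ := by linear_combination hμ - add_self hF μ
  rcases fixed h3 with h4 | h4
  · exfalso
    subst h4
    apply ha1
    rw [transv_zero, map_one]
  · subst h4
    rfl

/-- the centre of a Sylow 2-subgroup contains only one involution -/
theorem z1 (hF : Fintype.card F = 2 ^ 2) (hn : 3 ≤ n) (S : Sylow 2 (PSU n F 2)) (a : PSU n F 2) (ha : a ∈ S)
    (ha1 : a ≠ 1) (hac : ∀ s ∈ S, s * a = a * s) (b : PSU n F 2) (hb : b ∈ S) (hb1 : b ≠ 1)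
    (hbc : ∀ s ∈ S, s * b = b * s) : a = b := by
  obtain ⟨u, _, hu, h, key⟩ := mem_center_sylow hF hn S
  rw [key a ha ha1 hac, key b hb hb1 hbc]

end Cfsg.Agent.OddHalf.D4.Un2

end

-- merged: Cfsg.Agent.OddHalf.D4.Un2.Aut
section

/-!
# ODD, D4, row `U_n(2)`: automorphisms of `PSU_n(2)`
-/

set_option autoImplicit false

namespace Cfsg.Agent.OddHalf.D4.Un2

open Cfsg Cfsg.Agent.LieClassical.HermBasic Cfsg.Agent.LieClassical.HermSiegel
  Cfsg.Agent.LieClassical.HermGen Cfsg.Agent.ClassicalGeometry.PSUAutBasic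
  Cfsg.Agent.ClassicalGeometry.PSUAutSylow Matrix Cfsg.Agent.OddHalf.D4.Spor
open Cfsg.Agent.ClassicalGeometry.PSUAutCount (gm toAut semiConj act_semiConj herm_semi gm_inv_mulVec gm_mulVec_inv
  gm_mul gm_mul_inv herm_gm)
open Cfsg.Agent.ClassicalGeometry.PSUAutMain (toAut_pr' exists_toAut)
open Cfsg.Agent.ClassicalGeometry.PSUAutExt (semiConj_siegel)
open Cfsg.Agent.Schreier.PSU (f₁ f₂ toAut_eq mapGU conj_field f₁_eq_conj)

variable {F : Type*} [Field F] [Fintype F] {n : ℕ}

/-- the cube of a linear automorphism is inner -/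
theorem cube_inn (hF : Fintype.card F = 2 ^ 2) (A : GU n F 2) : Inn ((f₁ A : MulAut (PSU n F 2)) ^ 3) := by
  have hdet : (gm (A ^ 3)).det = 1 := by
    have h3 : gm (A ^ 3) = gm A * gm A * gm A := by
      rw [pow_succ, pow_two]; rfl
    have h4 : (gm A).det ≠ 0 := by
      intro h
      have := congrArg Matrix.det (gm_mul_inv A)
      rw [det_mul, h, zero_mul, det_one] at this
      exact zero_ne_one this
    have h5 := FiniteField.pow_card_sub_one_eq_one (gm A).det h4
    rw [hF] at h5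
    rw [h3, det_mul, det_mul, ← h5]
    ring
  let g : SU n F 2 := mkSU (gm (A ^ 3)) hdet (fun u v => herm_gm _ u v)
  exact ⟨pr n F 2 g, by rw [← map_pow]; exact f₁_eq_conj (A ^ 3) g rfl⟩

omit [Fintype F] in
theorem Inn.pow {X : Type*} [Group X] {α : MulAut X} (h : Inn α) (m : ℕ) : Inn (α ^ m) := by
  obtain ⟨k, rfl⟩ := h
  exact ⟨k ^ m, by rw [map_pow]⟩

/-- linear 2-automorphisms are inner -/
theorem inn_of_linear (hF : Fintype.card F = 2 ^ 2) {A : GU n F 2} {k : ℕ}
    (hk : (toAut A 1 : MulAut (PSU n F 2)) ^ 2 ^ k = 1) : Inn (toAut A 1 : MulAut (PSU n F 2)) := by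
  have h1 : Nat.Coprime 3 (orderOf (toAut A 1 : MulAut (PSU n F 2))) := by
    have h2 : orderOf (toAut A 1 : MulAut (PSU n F 2)) ∣ 2 ^ k := orderOf_dvd_of_pow_eq_one hk
    exact Nat.Coprime.coprime_dvd_right h2 (Nat.Coprime.pow_right k (by norm_num))
  obtain ⟨m, hm⟩ := exists_pow_eq_self_of_coprime h1
  rw [← hm]
  exact Inn.pow (cube_inn hF A) m

/-- the semilinear map -/
def GG (A : GU n F 2) (ρ : F ≃+* F) (y : Fin n → F) : Fin n → F := gm A *ᵥ fun i => ρ (y i)

section GG

variable (A : GU n F 2) (ρ : F ≃+* F)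

omit [Fintype F] in
theorem GG_add (x y : Fin n → F) : GG A ρ (x + y) = GG A ρ x + GG A ρ y := by
  rw [GG, GG, GG, ← mulVec_add]
  congr 1
  funext i
  simp

omit [Fintype F] in
theorem GG_smul (c : F) (y : Fin n → F) : GG A ρ (c • y) = ρ c • GG A ρ y := by
  rw [GG, GG, ← mulVec_smul]
  congr 1
  funext i
  simp

omit [Fintype F] in
theorem GG_zero : GG A ρ 0 = 0 := by
  have h := GG_smul A ρ 0 0
  rwa [map_zero, zero_smul, zero_smul] at h

omit [Fintype F] in
theorem GG_surj (x : Fin n → F) : ∃ y, GG A ρ y = x := by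
  refine ⟨fun j => ρ.symm ((gm A⁻¹ *ᵥ x) j), ?_⟩
  rw [GG]
  simp only [RingEquiv.apply_symm_apply]
  rw [gm_mulVec_inv]

omit [Fintype F] in
theorem herm_GG (x y : Fin n → F) : hermForm n F 2 (GG A ρ x) (GG A ρ y) = ρ (hermForm n F 2 x y) :=
  herm_semi A ρ x y

omit [Fintype F] in
theorem act_semi (g : SU n F 2) (y : Fin n → F) : act (semiConj A ρ g) (GG A ρ y) = GG A ρ (act g y) :=
  act_semiConj A ρ g y

omit [Fintype F] in
theorem GG_ne_zero {y : Fin n → F} (hy : y ≠ 0) : GG A ρ y ≠ 0 := by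
  intro h
  apply hy
  have h1 : gm A⁻¹ *ᵥ GG A ρ y = 0 := by rw [h, mulVec_zero]
  rw [GG, gm_inv_mulVec] at h1
  funext i
  have h2 := congrFun h1 i
  simpa using h2

end GG

omit [Fintype F] in
/-- `ρ` is trivial if `c • v` and `ρ c • v` always agree -/
theorem rho_eq_one {ρ : F ≃+* F} (h : ∀ c, ρ c = c) : ρ = 1 := RingEquiv.ext h

/-- the semilinear map of an automorphism fixing a Sylow 2-subgroup -/
theorem rho_of_sylow (hF : Fintype.card F = 2 ^ 2) (hn : 5 ≤ n) (S : Sylow 2 (PSU n F 2)) (A : GU n F 2)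
    (ρ : F ≃+* F) (h : ∀ x ∈ S, toAut A ρ x = x) : ρ = 1 := by
  have := charP_two hF
  have : Fact (Nat.Prime 2) := ⟨Nat.prime_two⟩
  have hn3 : 3 ≤ n := by omega
  obtain ⟨T, hT⟩ := exists_sylow_lift 2 S
  obtain ⟨u, hu0, hu, hfix⟩ := exists_fixed 2 hF (by omega) T.isPGroup'
  have hle := siegG_le_sylow 2 hF T hu hfix
  have hS : ∀ c ∈ siegG hF u hu, semiConj A ρ c = c := by
    intro c hc
    obtain ⟨k, hk⟩ := T.isPGroup' ⟨c, hle hc⟩
    have hk' : c ^ 2 ^ k = 1 := congrArg Subtype.val hk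
    apply eq_of_pr hF hn3 (k := k) (l := k) (by rw [← map_pow, hk', map_one]) hk'
    have h1 : pr n F 2 c ∈ S := by
      show pr n F 2 c ∈ (S : Subgroup (PSU n F 2))
      rw [← hT]
      exact ⟨c, hle hc, rfl⟩
    rw [← toAut_pr']
    exact h _ h1
  have hsg : ∀ (w : Fin n → F) (μ : F) (hs : IsSiegel 2 u w μ) (y : Fin n → F),
      hermForm n F 2 y (GG A ρ u) • GG A ρ w +
        (ρ μ * hermForm n F 2 y (GG A ρ u) - hermForm n F 2 y (GG A ρ w)) • GG A ρ u =
      hermForm n F 2 y u • w + (μ * hermForm n F 2 y u - hermForm n F 2 y w) • u := by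
    intro w μ hs y
    have h1 := hS _ ⟨w, μ, hs, rfl⟩
    rw [semiConj_siegel] at h1
    have h2 := congrArg (fun g => act g y) h1
    simp only [act_siegel] at h2
    rw [add_assoc, add_assoc] at h2
    exact add_left_cancel h2
  -- `G u = κ u`
  obtain ⟨κ, hκ⟩ : ∃ κ : F, GG A ρ u = κ • u := by
    have h1 : (1 : F) + 1 ^ 2 = 0 := by rw [one_pow, add_self hF]
    apply exists_smul_of_sum' hF
    intro y
    have h2 := hsg 0 1 (isSiegel_zero hu h1) y
    rw [GG_zero, smul_zero, smul_zero, zero_add, zero_add, herm_zero_right hF, sub_zero, sub_zero, map_one, one_mul,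
      one_mul] at h2
    rw [h2, vadd_self hF]
  have hκ0 : κ ≠ 0 := by
    rintro rfl
    rw [zero_smul] at hκ
    exact GG_ne_zero A ρ hu0 hκ
  have key : ∀ y w, hermForm n F 2 y u = 0 → hermForm n F 2 w u = 0 →
      hermForm n F 2 y w = κ * hermForm n F 2 y (GG A ρ w) := by
    intro y w hy hw
    obtain ⟨μ, hμ⟩ := exists_siegel hF hu hw
    have h1 := hsg w μ hμ y
    rw [hκ, herm_smul_right, hy, mul_zero, zero_smul, mul_zero, mul_zero, zero_smul, zero_add, zero_add, zero_sub,
      zero_sub, smul_smul] at h1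
    have h2 : (-hermForm n F 2 y (GG A ρ w) * κ - -hermForm n F 2 y w) • u = 0 := by
      rw [sub_smul, h1, sub_self]
    rcases smul_eq_zero.1 h2 with h3 | h3
    · linear_combination h3
    · exact absurd h3 hu0
  obtain ⟨s, hs⟩ := exists_herm_ne_zero hF hu0
  obtain ⟨y, w, hy, -, hw, -, hyw⟩ := exists_pair hF hn hu0 (s := s) (fun c hc => hs (by
    rw [hc, herm_smul_right, hu, mul_zero]))
  apply rho_eq_one
  intro c
  have h1 := key y w hy hw
  have h2 := key y (c • w) hy (by rw [herm_smul_left, hw, mul_zero])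
  rw [GG_smul, herm_smul_right, herm_smul_right] at h2
  have h3 : (c ^ 2 - ρ c ^ 2) * hermForm n F 2 y w = 0 := by
    linear_combination h2 - ρ c ^ 2 * h1
  rcases mul_eq_zero.1 h3 with h4 | h4
  · exact ((pow_q_inj hF).1 (sub_eq_zero.1 h4)).symm
  · exact absurd h4 hyw

/-- 2-elements of `Aut` centralizing a Sylow 2-subgroup are inner -/
theorem sylAut (hF : Fintype.card F = 2 ^ 2) (hn : 5 ≤ n) (S : Sylow 2 (PSU n F 2)) (α : MulAut (PSU n F 2))
    (hα : IsPGroup 2 ↥(Subgroup.zpowers α)) (h : ∀ x ∈ S, α x = x) : Inn α := by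
  obtain ⟨A, ρ, rfl⟩ := exists_toAut hF (by omega) (by omega) α
  have hρ := rho_of_sylow hF hn S A ρ h
  subst hρ
  obtain ⟨k, hk⟩ := hα ⟨_, Subgroup.mem_zpowers _⟩
  exact inn_of_linear hF (congrArg Subtype.val hk)

/-- **OUT2** -/
theorem out2 (hF : Fintype.card F = 2 ^ 2) (hn : 5 ≤ n) (α : MulAut (PSU n F 2)) (hα : ¬ Inn α) (hα2 : α * α = 1)
    (w : PSU n F 2) (hw : w * w = 1) (hw1 : w ≠ 1) (hnc : ¬ Cen w) (hαw : α w = w)
    (h : ∀ c : PSU n F 2, c * w = w * c → α c = c ∨ α c = w * c) : False := by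
  have hn3 : 3 ≤ n := by omega
  obtain ⟨A, ρ, rfl⟩ := exists_toAut hF hn3 (by omega) α
  have hρ : ρ ≠ 1 := by
    rintro rfl
    exact hα (inn_of_linear hF (k := 1) (by rw [pow_one, pow_two]; exact hα2))
  apply hρ
  obtain ⟨w, rfl, hw2, hw1'⟩ := lift_inv hF hn3 hw hw1
  have hwp : w ^ 2 ^ 1 = 1 := by rw [pow_one, pow_two, hw2]
  have hSw : semiConj A ρ w = w := by
    apply eq_of_pr hF hn3 (k := 1) (l := 1) (by rw [← map_pow, hwp, map_one]) hwp
    rw [← toAut_pr']
    exact hαw
  have hGw : ∀ y, act w (GG A ρ y) = GG A ρ (act w y) := by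
    intro y
    rw [← act_semi, hSw]
  have hGfix : ∀ {u}, act w u = u → act w (GG A ρ u) = GG A ρ u := by
    intro u hu
    rw [hGw, hu]
  have hGfix' : ∀ {u}, act w (GG A ρ u) = GG A ρ u → act w u = u := by
    intro u hu
    rw [hGw] at hu
    by_contra hne
    have h1 : act w u - u ≠ 0 := sub_ne_zero.2 hne
    apply GG_ne_zero A ρ h1
    rw [sub_eq_add_neg, GG_add, hu, ← GG_add, add_neg_cancel, GG_zero]
  have hGRd : ∀ {r}, Rd w r → Rd w (GG A ρ r) := by
    intro r hr
    refine ⟨hGfix hr.1, fun u hu => ?_⟩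
    obtain ⟨u', rfl⟩ := GG_surj A ρ u
    rw [herm_GG, hr.2 u' (hGfix' hu), map_zero]
  have hS : ∀ c : SU n F 2, (∃ k : ℕ, c ^ 2 ^ k = 1) → c * w = w * c →
      semiConj A ρ c = c ∨ semiConj A ρ c = w * c := by
    rintro c ⟨k, hk⟩ hc
    have hwc : (w * c) ^ 2 ^ (k + 1) = 1 := by
      have h1 : Commute w c := hc.symm
      rw [h1.mul_pow, pow_succ, mul_comm (2 ^ k) 2, pow_mul, pow_mul, pow_two, pow_two, hw2, one_pow, one_mul,
        ← pow_two, ← pow_mul, mul_comm, pow_mul, hk, one_pow]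
    rcases h (pr n F 2 c) (by rw [← map_mul, hc, map_mul]) with h1 | h1
    · left
      apply eq_of_pr hF hn3 (k := k) (l := k) (by rw [← map_pow, hk, map_one]) hk
      rw [← toAut_pr', h1]
    · right
      apply eq_of_pr hF hn3 (k := k) (l := k + 1) (by rw [← map_pow, hk, map_one]) hwc
      rw [← toAut_pr', h1, map_mul]
  have hnt : ∀ v : Fin n → F, v ≠ 0 → hermForm n F 2 v v = 0 → ¬ ∀ y, act w y = y + hermForm n F 2 y v • v :=
    fun v hv0 hv hact => hnc (cen_tv hF hn3 hv0 hv hact)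
  obtain ⟨a, ha, haN⟩ := exists_iso_vec hF hw2 hw1' hnt
  have hr₀ := Rd_Nw hF hw2 a
  have hNa : Nw w a ≠ 0 := fun h => ha ((Nw_eq_zero hF).1 h)
  by_cases hiso : ∀ y u, act w y = y → act w u = u → hermForm n F 2 y u = 0
  · -- the fixed space is totally isotropic
    have hev : ∀ v, act w v = v → ∃ κ : F, GG A ρ v = κ • v := by
      intro v hv
      by_contra hcon
      push Not at hcon
      have hv0 : v ≠ 0 := by
        rintro rfl
        exact hcon 0 (by rw [GG_zero, smul_zero])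
      have hvv := hiso v v hv hv
      obtain ⟨t, ht⟩ := exists_tv hF hvv
      have htt : ∀ y, act t (act t y) = y := by
        intro y
        rw [ht (act t y), ht y, herm_add_left, herm_smul_left, hvv, mul_zero, add_zero, add_assoc,
          vadd_self hF, add_zero]
      have hSt : ∀ y, act (semiConj A ρ t) y = y + hermForm n F 2 y (GG A ρ v) • GG A ρ v := by
        intro y
        obtain ⟨y, rfl⟩ := GG_surj A ρ y
        rw [act_semi, ht, GG_add, GG_smul, herm_GG]
      rcases hS t ⟨1, by rw [pow_one, pow_two]; exact ext_act fun y => by rw [act_mul, htt, act_one]⟩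
        (tv_comm hw2 ht hv) with h1 | h1
      · obtain ⟨κ, hκ⟩ := exists_smul_of_sum' hF (v := v) (v' := GG A ρ v) (fun y => by
          have h2 := hSt y
          rw [h1, ht] at h2
          rw [← add_left_cancel h2, vadd_self hF])
        exact hcon κ hκ
      · obtain ⟨y₁, y₂, h2, h3, h4, h5, h6⟩ := exists_pair hF hn hv0 hcon
        have h7 : ∀ y, hermForm n F 2 y v = 0 → hermForm n F 2 y (GG A ρ v) = 0 → act w y = y := by
          intro y h8 h9
          have h10 := hSt y
          rw [h1, act_mul, ht, h8, h9, zero_smul, zero_smul, add_zero] at h10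
          exact h10
        exact h6 (hiso y₁ y₂ (h7 _ h2 h3) (h7 _ h4 h5))
    obtain ⟨z, hz⟩ := exists_herm_ne_zero hF hNa
    have hz' : hermForm n F 2 a (Nw w z) ≠ 0 := by rwa [← herm_Nw hF hw2]
    have hind : ∀ κ : F, Nw w z ≠ κ • Nw w a := by
      intro κ hκ
      rw [hκ, herm_smul_right, haN, mul_zero] at hz'
      exact hz' rfl
    obtain ⟨l₁, hl₁⟩ := hev _ (act_Nw hw2 a)
    obtain ⟨l₂, hl₂⟩ := hev _ (act_Nw hw2 z)
    have hl₁0 : l₁ ≠ 0 := by
      rintro rfl
      rw [zero_smul] at hl₁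
      exact GG_ne_zero A ρ hNa hl₁
    have h1 : ∀ c : F, c ≠ 0 → ρ c * l₂ = l₁ * c := by
      intro c hc
      obtain ⟨ν, hν⟩ := hev (Nw w a + c • Nw w z) (by
        rw [act_add, act_smul, act_Nw hw2, act_Nw hw2])
      rw [GG_add, GG_smul, hl₁, hl₂, smul_add, smul_smul, smul_smul] at hν
      have h2 : (ρ c * l₂ - ν * c) • Nw w z = (ν - l₁) • Nw w a := by
        rw [sub_smul, sub_smul, sub_eq_sub_iff_add_eq_add, add_comm (ν • Nw w a), add_comm _ (l₁ • Nw w a), hν]
        abel
      have h3 : ρ c * l₂ - ν * c = 0 := by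
        by_contra h3
        apply hind ((ρ c * l₂ - ν * c)⁻¹ * (ν - l₁))
        rw [mul_smul, ← h2, smul_smul, inv_mul_cancel₀ h3, one_smul]
      rw [h3, zero_smul] at h2
      rcases smul_eq_zero.1 h2.symm with h4 | h4
      · linear_combination h3 + c * h4
      · exact absurd h4 hNa
    have h2 := h1 1 one_ne_zero
    rw [map_one, one_mul, mul_one] at h2
    apply rho_eq_one
    intro c
    by_cases hc : c = 0
    · rw [hc, map_zero]
    · have h3 := h1 c hc
      rw [h2, mul_comm] at h3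
      exact mul_left_cancel₀ hl₁0 h3
  · push Not at hiso
    obtain ⟨y₀, u₀, hy₀, hu₀, h0⟩ := hiso
    have key : ∀ r, Rd w r → hermForm n F 2 y₀ u₀ • r = hermForm n F 2 y₀ (GG A ρ u₀) • GG A ρ r := by
      intro r hr
      obtain ⟨μ, hμ⟩ := exists_siegel hF hr.self (hr.left hu₀)
      have hcw := siegel_comm hF hμ hr.1 hu₀
      have h1 : act (siegel hF r u₀ μ hμ) y₀ = y₀ + hermForm n F 2 y₀ u₀ • r := by
        rw [act_siegel, hr.left hy₀, mul_zero, zero_smul, zero_sub, neg_self hF, add_zero]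
      have h2 : act (semiConj A ρ (siegel hF r u₀ μ hμ)) y₀ = y₀ +
          hermForm n F 2 y₀ (GG A ρ u₀) • GG A ρ r := by
        rw [semiConj_siegel, act_siegel]
        have h3 : hermForm n F 2 y₀ (GG A ρ r) = 0 := (hGRd hr).left hy₀
        show y₀ + hermForm n F 2 y₀ (GG A ρ r) • GG A ρ u₀ +
          (ρ μ * hermForm n F 2 y₀ (GG A ρ r) - hermForm n F 2 y₀ (GG A ρ u₀)) • GG A ρ r = _
        rw [h3, mul_zero, zero_smul, zero_sub, neg_self hF, add_zero]
      have := charP_two hF
      have : Fact (Nat.Prime 2) := ⟨Nat.prime_two⟩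
      rcases hS _ (siegel_pow_prime_pow hF 2 hμ) hcw with h3 | h3
      · rw [h3, h1] at h2
        exact add_left_cancel h2
      · rw [h3, act_mul, h1, act_add, act_smul, hy₀, hr.1] at h2
        exact add_left_cancel h2
    apply rho_eq_one
    intro c
    have h1 := key _ hr₀
    have h2 := key _ (hr₀.smul c)
    rw [GG_smul] at h2
    have h3 : ((ρ c - c) * hermForm n F 2 y₀ u₀) • Nw w a = 0 := by
      have h4 : (ρ c * hermForm n F 2 y₀ u₀) • Nw w a = hermForm n F 2 y₀ u₀ • c • Nw w a := by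
        rw [h2, mul_smul, h1, smul_comm]
      rw [sub_mul, sub_smul, h4, smul_smul, mul_comm c, sub_self]
    rcases smul_eq_zero.1 h3 with h4 | h4
    · rcases mul_eq_zero.1 h4 with h5 | h5
      · exact sub_eq_zero.1 h5
      · exact absurd h5 h0
    · exact absurd h4 hNa

end Cfsg.Agent.OddHalf.D4.Un2

end
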